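import Cfsg.Agent.Lib.Goldschmidt.Phi.Model

/-!
# Strongly closed abelian `2`-subgroups, the Frattini case: the traces

Two different traces lie in each other's left sides, so `N(A)` permutes at least three of them: with one
trace `A` would be a trace, with two `N(A)` would have a quotient of order two seen by `S`.
-/

set_option autoImplicit false
set_option linter.style.haveILetI false

namespace CfsgLib.Gold.Phi

open Subgroup

universe u

variable {G : Type u} [Group G]

theorem mem_of_pair {A R V : Subgroup G} {a : G} (hp : IsPairAt A a R V) : a ∈ A ∧ a ≠ 1 :=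
  ⟨hp.1.1, fun e => by simpa [e] using hp.1.2.1⟩

theorem c2_facts : (∀ c : Multiplicative (ZMod 2), c ^ 2 = 1) ∧
    Multiplicative.ofAdd (1 : ZMod 2) ≠ 1 ∧
    Multiplicative.ofAdd (1 : ZMod 2) * Multiplicative.ofAdd 1 = 1 :=
  ⟨by decide, by decide, by decide⟩

variable [Finite G] {S : Sylow 2 G} {A : Subgroup G}

section

variable (h : Setting S A) (hC : CompFacts A) (hP : PairFacts A)
  (hphi : A ≤ sqGen (centA (S : Subgroup G) A)) (hF : RankOneFactsStmt.{u})
include h hC hP hphi hF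

omit hP in
/-- Two pairs have the same trace or each trace lies in the other left side. -/
theorem trace_cross {a b : G} {R V R' V' : Subgroup G} (hp : IsPairAt A a R V) (hp' : IsPairAt A b R' V') :
    V = V' ∨ (V' ≤ R ∧ V ≤ R') := by
  obtain ⟨ha, ha1⟩ := mem_of_pair hp
  obtain ⟨hb, hb1⟩ := mem_of_pair hp'
  obtain ⟨K, hK, rfl, rfl⟩ := hC.exists_met _ _ _ hp
  obtain ⟨L, hL, rfl, rfl⟩ := hC.exists_met _ _ _ hp'
  exact ((sep h hC hphi hF ha ha1 hK).cross (sep h hC hphi hF hb hb1 hL) hp.2.1 hp'.2.1).imp_right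
    fun ⟨x, y⟩ => ⟨le_inf (x.trans inf_le_left) inf_le_right, le_inf (y.trans inf_le_left) inf_le_right⟩

omit hC hphi hF in
/-- Besides two given traces there is a third one. -/
theorem exists_other {a : G} {R V : Subgroup G} (hp : IsPairAt A a R V) (V₂ : Subgroup G) :
    ∃ b R' V', IsPairAt A b R' V' ∧ V' ≠ V ∧ V' ≠ V₂ := by
  classical
  haveI := Fact.mk Nat.prime_two
  obtain ⟨ha, ha1⟩ := mem_of_pair hp
  by_contra hno
  push Not at hno
  have hVA : V ≤ A := hp.1.le_right
  have hVne : V ≠ A := fun e => ha1 (mem_bot.1 (hP.inf_eq a R V hp ▸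
    mem_inf.2 ⟨hP.mem_left a R V hp, e ▸ ha⟩))
  let IsTr : Subgroup G → Prop := fun V' => ∃ b R', IsPairAt A b R' V'
  let mv : G → Subgroup G → Subgroup G := fun n H => H.map (MulAut.conj n).toMonoidHom
  have hmv : ∀ {n : G}, n ∈ normalizer (A : Set G) → ∀ {V' : Subgroup G}, IsTr V' → IsTr (mv n V') :=
    fun hn _ ⟨b, R', h'⟩ => ⟨_, _, hP.map_conj b R' _ h' _ hn⟩
  have htr : ∀ {V' : Subgroup G}, IsTr V' → V' = V ∨ V' = V₂ := fun {V'} ⟨b, R', h'⟩ =>
    or_iff_not_imp_left.2 (hno b R' V' h')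
  have hVtr : IsTr V := ⟨a, R, hp⟩
  have hfix : ¬ ∀ n ∈ normalizer (A : Set G), mv n V = V := fun hall => by
    rcases h.irreducible hVA fun n hn x hx => hall n hn ▸ mem_map_of_mem _ hx with e | e
    · exact hp.2.1 e
    · exact hVne e
  obtain ⟨n₀, hn₀, hsw⟩ : ∃ n ∈ normalizer (A : Set G), mv n V ≠ V := by
    by_contra hall
    push Not at hall
    exact hfix hall
  have hV₂ : mv n₀ V = V₂ := (htr (hmv hn₀ hVtr)).resolve_left hsw
  have hV₂tr : IsTr V₂ := hV₂ ▸ hmv hn₀ hVtr
  have hne : V₂ ≠ V := hV₂ ▸ hsw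
  have hinj : ∀ n : G, Function.Injective (mv n) := fun n =>
    map_injective (MulAut.conj n).injective
  have hperm : ∀ n ∈ normalizer (A : Set G), (mv n V = V ∧ mv n V₂ = V₂) ∨ (mv n V = V₂ ∧ mv n V₂ = V) := by
    intro n hn
    rcases htr (hmv hn hVtr) with e | e <;> rcases htr (hmv hn hV₂tr) with e' | e'
    · exact absurd (hinj n (e.trans e'.symm)) hne.symm
    · exact Or.inl ⟨e, e'⟩
    · exact Or.inr ⟨e, e'⟩
    · exact absurd (hinj n (e.trans e'.symm)) hne.symm
  have hmul : ∀ m n : G, mv (m * n) V = mv m (mv n V) := fun m n => by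
    show V.map _ = (V.map _).map _
    rw [map_map]
    congr 1
    ext x
    simp
  set N : Subgroup G := normalizer (A : Set G)
  let ε : Multiplicative (ZMod 2) := Multiplicative.ofAdd 1
  let f : N → Multiplicative (ZMod 2) := fun n => if mv n V = V then 1 else ε
  have hfm : ∀ m n : N, f (m * n) = f m * f n := by
    intro m n
    show (if mv ((m : G) * n) V = V then 1 else ε) = (if mv m V = V then 1 else ε) * (if mv n V = V then 1 else ε)
    rw [hmul]
    rcases hperm n n.2 with ⟨e, -⟩ | ⟨e, -⟩ <;> rcases hperm m m.2 with ⟨d, d'⟩ | ⟨d, d'⟩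
    · simp [e, d]
    · simp [e, d, hne]
    · simp [e, d, d', hne]
    · rw [e, d', d, if_pos rfl, if_neg hne]
      exact c2_facts.2.2.symm
  let χ : N →* Multiplicative (ZMod 2) := MonoidHom.mk' f hfm
  have hε : χ ⟨n₀, hn₀⟩ ≠ 1 := by
    show (if mv n₀ V = V then 1 else ε) ≠ 1
    rw [if_neg hsw]
    exact c2_facts.2.1
  by_cases hs : ∀ s, ∀ hs : s ∈ (S : Subgroup G), χ ⟨s, h.sylow_le_normalizer hs⟩ = 1
  · have hle : ((S.subtype h.sylow_le_normalizer : Sylow 2 N) : Subgroup N) ≤ χ.ker := fun x hx =>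
      MonoidHom.mem_ker.2 (hs x (mem_subgroupOf.1 hx))
    refine (S.subtype h.sylow_le_normalizer).not_dvd_index ?_
    refine dvd_trans ?_ (index_dvd_of_le hle)
    rw [index_ker]
    have h2 : Nat.card χ.range ∣ 2 := (card_subgroup_dvd_card _).trans (dvd_of_eq (by simp))
    rcases (Nat.dvd_prime Nat.prime_two).1 h2 with e | e
    · exact absurd (MonoidHom.mem_range.2 ⟨⟨n₀, hn₀⟩, rfl⟩ : χ ⟨n₀, hn₀⟩ ∈ χ.range)
        (fun hm => hε (mem_bot.1 ((eq_bot_of_card_eq _ e) ▸ hm)))
    · exact dvd_of_eq e.symm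
  · push Not at hs
    obtain ⟨s, hsS, hsne⟩ := hs
    exact h.false_of_hom c2_facts.1 χ hsS hsne

/-- The left side of a pair has order at least four. -/
theorem four_le_left {a : G} {R V : Subgroup G} (hp : IsPairAt A a R V) : 4 ≤ Nat.card R := by
  obtain ⟨b, R', V', hp', hne, -⟩ := exists_other h hP hp V
  exact (hP.four_le b R' V' hp').trans (Nat.le_of_dvd Nat.card_pos
    (card_dvd_of_le ((trace_cross h hC hphi hF hp hp').resolve_left (Ne.symm hne)).1))

/-- Two left sides meet. -/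
theorem exists_common {a b : G} {R V R' V' : Subgroup G} (hp : IsPairAt A a R V) (hp' : IsPairAt A b R' V') :
    ∃ r ∈ A, r ≠ 1 ∧ r ∈ R ∧ r ∈ R' := by
  obtain ⟨c, R'', V'', hp'', hne, hne'⟩ := exists_other h hP hp V'
  obtain ⟨r, hr, hr1⟩ := V''.bot_or_exists_ne_one.resolve_left hp''.2.1
  exact ⟨r, hp''.1.le_right hr, hr1, ((trace_cross h hC hphi hF hp hp'').resolve_left (Ne.symm hne)).1 hr,
    ((trace_cross h hC hphi hF hp' hp'').resolve_left (Ne.symm hne')).1 hr⟩

end

end CfsgLib.Gold.Phi
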