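import Cfsg.Agent.Lib.Goldschmidt.Setup

/-!
# Strongly closed abelian `2`-subgroups, the Frattini case: the end when the cores are trivial

`P a L` says that `L` is a component of `C(a)` met by `A`, with trace `V a L`. Components with a common
centralizing element of `A` are equal or commute, so the group they generate is proper and normalized by all
the centralizers.
-/

set_option autoImplicit false

namespace CfsgLib.Gold.Phi

open Subgroup
open scoped commutatorElement

universe u

variable {G : Type u} [Group G]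

/-- What is used of the components of the centralizers when their cores are trivial. -/
structure Comps (A : Subgroup G) where
  P : G → Subgroup G → Prop
  V : G → Subgroup G → Subgroup G
  mem : ∀ {a L}, P a L → a ∈ A ∧ a ≠ 1
  le_cent : ∀ {a L}, P a L → L ≤ centralizer ({a} : Set G)
  perfect : ∀ {a L}, P a L → ⁅L, L⁆ = L
  trace_le : ∀ {a L}, P a L → V a L ≤ A
  trace_faithful : ∀ {a L}, P a L → ∀ v ∈ V a L, (∀ l ∈ L, Commute v l) → v = 1
  trace_ne : ∀ {a L}, P a L → V a L ≠ ⊥
  split : ∀ {a L}, P a L → ∀ x ∈ A, ∃ v ∈ V a L, ∀ l ∈ L, Commute (x * v⁻¹) l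
  generate : ∀ {a L}, P a L → ∀ M : Subgroup G, (∀ l ∈ L, ∀ v ∈ V a L, ⁅l, v⁆ ∈ M) → L ≤ M
  trace_mem : ∀ {a L}, P a L → V a L ≤ L
  sep : ∀ {a L L'}, P a L → P a L' → L = L' ∨ ∀ l ∈ L, ∀ l' ∈ L', Commute l l'
  cross : ∀ {a L b L'}, P a L → P b L' → V a L = V b L' ∨
    ((∀ v ∈ V a L, ∀ l ∈ L', Commute v l) ∧ ∀ v ∈ V b L', ∀ l ∈ L, Commute v l)
  third : ∀ {a L b L'}, P a L → P b L' →
    ∃ r ∈ A, r ≠ 1 ∧ (∀ l ∈ L, Commute r l) ∧ ∀ l ∈ L', Commute r l
  gen : ∀ a ∈ A, a ≠ 1 → centralizer ({a} : Set G) ≤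
    (⨆ L : {L : Subgroup G // P a L}, (L : Subgroup G)) ⊔ (centralizer ({a} : Set G) ⊓ normalizer (A : Set G))
  conj : ∀ {a L}, P a L → ∀ n ∈ normalizer (A : Set G), P (n * a * n⁻¹) (L.map (MulAut.conj n).toMonoidHom)

namespace Comps

variable {A : Subgroup G} (D : Comps A)

/-- The subgroup generated by the components at `r`. -/
def lay (r : G) : Subgroup G := ⨆ L : {L : Subgroup G // D.P r L}, (L : Subgroup G)

theorem le_lay {r : G} {L : Subgroup G} (h : D.P r L) : L ≤ D.lay r :=
  le_iSup (fun L : {L : Subgroup G // D.P r L} => (L : Subgroup G)) ⟨L, h⟩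

theorem lay_conj {r n : G} (hn : n ∈ normalizer (A : Set G)) (hr : Commute n r) {x : G}
    (hx : x ∈ D.lay r) : n * x * n⁻¹ ∈ D.lay r := by
  have h : D.lay r ≤ (D.lay r).comap (MulAut.conj n).toMonoidHom := by
    refine iSup_le ?_
    rintro ⟨L, hL⟩ l hl
    have h1 := D.conj hL n hn
    rw [show n * r * n⁻¹ = r by rw [hr.eq, mul_inv_cancel_right]] at h1
    exact D.le_lay h1 (mem_map_of_mem _ hl)
  exact h hx

/-- A component centralized by `r` lies in the component of `C(r)` with the same trace. -/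
theorem exists_over {a r : G} {L : Subgroup G} (hL : D.P a L) (hr : r ∈ A) (hr1 : r ≠ 1)
    (hrL : ∀ l ∈ L, Commute r l) (hcomm : ∀ x ∈ A, ∀ y ∈ A, Commute x y) :
    ∃ M, D.P r M ∧ D.V r M = D.V a L ∧ L ≤ M := by
  set C := centralizer ({r} : Set G)
  set N := C ⊓ normalizer (A : Set G)
  have hAC : A ≤ C := fun x hx => mem_centralizer_singleton_iff.2 (hcomm x hx r hr)
  have hlayC : D.lay r ≤ C := iSup_le fun M => D.le_cent M.2
  -- the layer with `A` is normal in the centralizer
  set Q := D.lay r ⊔ A with hQ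
  have hnorm : ∀ c ∈ C, ∀ x ∈ Q, c * x * c⁻¹ ∈ Q := by
    have h1 : C ≤ normalizer (Q : Set G) := by
      refine (D.gen r hr hr1).trans (sup_le (le_sup_left.trans le_normalizer) fun n hn => ?_)
      rw [mem_inf] at hn
      have hsub : ∀ m ∈ N, ∀ x ∈ Q, m * x * m⁻¹ ∈ Q := by
        intro m hm x hx
        rw [mem_inf] at hm
        have h : Q ≤ Q.comap (MulAut.conj m).toMonoidHom :=
          sup_le (fun y hy => mem_sup_left (D.lay_conj hm.2 (mem_centralizer_singleton_iff.1 hm.1) hy))
            fun y hy => mem_sup_right ((mem_normalizer_iff.1 hm.2 y).1 hy)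
        exact h hx
      refine mem_normalizer_iff.2 fun x => ⟨hsub n (mem_inf.2 hn) x, fun hx => ?_⟩
      have := hsub n⁻¹ (inv_mem (mem_inf.2 hn)) _ hx
      simpa [mul_assoc] using this
    exact fun c hc x hx => (mem_normalizer_iff.1 (h1 hc) x).1 hx
  have hLC : L ≤ C := fun l hl => mem_centralizer_singleton_iff.2 (hrL l hl).symm
  have hLQ : L ≤ Q := D.generate hL Q fun l hl v hv => by
    have hvQ : v ∈ Q := mem_sup_right (D.trace_le hL hv)
    exact mul_mem (hnorm l (hLC hl) v hvQ) (inv_mem hvQ)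
  have hlayA : ∀ x ∈ A, x ∈ normalizer (D.lay r : Set G) := by
    intro x hx
    have hxN : x ∈ normalizer (A : Set G) := le_normalizer hx
    refine mem_normalizer_iff.2 fun y => ⟨D.lay_conj hxN (hcomm x hx r hr), fun hy => ?_⟩
    have := D.lay_conj (inv_mem hxN) (hcomm x hx r hr).inv_left hy
    simpa [mul_assoc] using this
  have hlay : L ≤ D.lay r := by
    rw [← D.perfect hL]
    refine commutator_le.2 fun x hx y hy => ?_
    haveI hn : ((D.lay r).subgroupOf Q).Normal :=
      (normal_subgroupOf_iff_le_normalizer le_sup_left).2 (sup_le le_normalizer hlayA)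
    have hab : ∀ p q : ↥Q, ⁅p, q⁆ ∈ (D.lay r).subgroupOf Q := by
      intro p q
      rw [← QuotientGroup.eq_one_iff]
      show QuotientGroup.mk' _ ⁅p, q⁆ = 1
      rw [map_commutatorElement, commutatorElement_eq_one_iff_commute]
      set f := QuotientGroup.mk' ((D.lay r).subgroupOf Q)
      have hlift : ∀ p : ↥Q, ∃ a : ↥Q, (a : G) ∈ A ∧ f p = f a := by
        rintro ⟨p, hp⟩
        obtain ⟨l, hl, a', ha', rfl⟩ :=
          CfsgLib.Coprime.mem_sup_exists (N := D.lay r) (H := A) (fun x hx => hlayA x hx) hp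
        refine ⟨⟨a', mem_sup_right ha'⟩, ha', ?_⟩
        rw [show (⟨l * a', _⟩ : ↥Q) = ⟨l, mem_sup_left hl⟩ * ⟨a', mem_sup_right ha'⟩ from rfl, map_mul,
          show f ⟨l, mem_sup_left hl⟩ = 1 from (QuotientGroup.eq_one_iff _).2 (mem_subgroupOf.2 hl), one_mul]
      obtain ⟨a', ha', e⟩ := hlift p
      obtain ⟨b', hb', e'⟩ := hlift q
      rw [e, e']
      have : Commute a' b' := Subtype.ext (hcomm _ ha' _ hb')
      exact this.map f
    exact mem_subgroupOf.1 (hab ⟨x, hLQ hx⟩ ⟨y, hLQ hy⟩)
  -- the trace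
  obtain ⟨M, hM, hVM⟩ : ∃ M, D.P r M ∧ D.V r M = D.V a L := by
    by_contra hno
    push Not at hno
    obtain ⟨v, hv, hv1⟩ := (D.V a L).bot_or_exists_ne_one.resolve_left (D.trace_ne hL)
    refine hv1 (D.trace_faithful hL v hv fun l hl => ?_)
    have h : D.lay r ≤ centralizer ({v} : Set G) := iSup_le fun M x hx =>
      mem_centralizer_singleton_iff.2
        (((D.cross hL M.2).resolve_left fun e => hno M M.2 e.symm).1 v hv x hx).symm
    exact (mem_centralizer_singleton_iff.1 (h (hlay hl))).symm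
  refine ⟨M, hM, hVM, D.generate hL M fun l hl v hv => ?_⟩
  -- commutators with the trace lie in the component
  have hvM : v ∈ M := D.trace_mem hM (hVM ▸ hv)
  have hnormM : D.lay r ≤ normalizer (M : Set G) := iSup_le fun M' x hx => by
    rcases D.sep M'.2 hM with e | e
    · exact le_normalizer (e ▸ hx)
    · exact centralizer_le_normalizer _ (mem_centralizer_iff.2 fun m hm => (e x hx m hm).symm)
  exact mul_mem ((mem_normalizer_iff.1 (hnormM (hlay hl)) v).1 hvM) (inv_mem hvM)

/-- Two components are equal or commute. -/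
theorem eq_or_commute (hcomm : ∀ x ∈ A, ∀ y ∈ A, Commute x y) {a b : G} {L L' : Subgroup G}
    (hL : D.P a L) (hL' : D.P b L') : L = L' ∨ ∀ l ∈ L, ∀ l' ∈ L', Commute l l' := by
  obtain ⟨r, hr, hr1, hrL, hrL'⟩ := D.third hL hL'
  have hall : ∀ {a : G} {L : Subgroup G}, D.P a L → (∀ l ∈ L, Commute r l) → D.P r L := by
    intro a L hL hrL
    obtain ⟨M, hM, hV, hle⟩ := D.exists_over hL hr hr1 hrL hcomm
    obtain ⟨v, hv, hvc⟩ := D.split hM a (D.mem hL).1
    have hv1 : v = 1 := by
      refine D.trace_faithful hL v (hV ▸ hv) fun l hl => ?_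
      have h1 : Commute a l := (mem_centralizer_singleton_iff.1 (D.le_cent hL hl)).symm
      have h2 := ((hvc l (hle hl)).inv_left.mul_left h1)
      rwa [mul_inv_rev, inv_inv, inv_mul_cancel_right] at h2
    have haM : ∀ m ∈ M, Commute a m := fun m hm => by
      have := hvc m hm
      rwa [hv1, inv_one, mul_one] at this
    obtain ⟨M', hM', hV', hle'⟩ := D.exists_over hM (D.mem hL).1 (D.mem hL).2 haM hcomm
    have e : L = M' := by
      rcases D.sep hL hM' with e | e
      · exact e
      · exfalso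
        refine D.trace_ne hL ((Subgroup.eq_bot_iff_forall _).2 fun x hx => ?_)
        exact D.trace_faithful hL x hx fun l hl =>
          (e l hl x (D.trace_mem hM' (hV' ▸ hV ▸ hx))).symm
    rwa [← le_antisymm (e ▸ hle') hle]
  exact D.sep (hall hL hrL) (hall hL' hrL')

/-- The end. -/
theorem false_of_setting [Finite G] {S : Sylow 2 G} (h : Setting S A) (D : Comps A) : False := by
  have hcomm : ∀ x ∈ A, ∀ y ∈ A, Commute x y := fun x hx y hy => h.commute_mem hx hy
  set H : Subgroup G := ⨆ p : {p : G × Subgroup G // D.P p.1 p.2}, p.1.2 with hH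
  have hle : ∀ {a : G} {L : Subgroup G}, D.P a L → L ≤ H := fun {a L} hL =>
    le_iSup (fun p : {p : G × Subgroup G // D.P p.1 p.2} => p.1.2) ⟨(a, L), hL⟩
  have hN : normalizer (A : Set G) ≤ normalizer (H : Set G) := by
    have hsub : ∀ n ∈ normalizer (A : Set G), ∀ x ∈ H, n * x * n⁻¹ ∈ H := by
      intro n hn x hx
      have : H ≤ H.comap (MulAut.conj n).toMonoidHom := iSup_le fun p l hl =>
        hle (D.conj p.2 n hn) (mem_map_of_mem _ hl)
      exact this hx
    intro n hn
    refine mem_normalizer_iff.2 fun x => ⟨hsub n hn x, fun hx => ?_⟩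
    simpa [mul_assoc] using hsub n⁻¹ (inv_mem hn) _ hx
  have hcent : ∀ a ∈ A, a ≠ 1 → centralizer ({a} : Set G) ≤ normalizer (H : Set G) := fun a ha ha1 =>
    (D.gen a ha ha1).trans (sup_le ((iSup_le fun L => hle L.2).trans le_normalizer) (inf_le_right.trans hN))
  by_cases hHt : H = ⊤
  · -- one component would be normal
    obtain ⟨⟨⟨a, L⟩, hL⟩⟩ : Nonempty {p : G × Subgroup G // D.P p.1 p.2} := by
      by_contra hne
      rw [not_nonempty_iff] at hne
      rw [hH, iSup_of_empty] at hHt
      exact h.noncomm (isMulCommutative_iff.2 fun x y => by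
        rw [mem_bot.1 (hHt.ge (mem_top x)), mem_bot.1 (hHt.ge (mem_top y))])
    haveI := h.simple
    have hn : L.Normal := normalizer_eq_top_iff.1 (top_unique (hHt ▸ iSup_le fun p x hx => by
      rcases D.eq_or_commute hcomm p.2 hL with e | e
      · exact le_normalizer (show x ∈ L from (show p.1.2 = L from e) ▸ hx)
      · exact centralizer_le_normalizer _ (mem_centralizer_iff.2 fun m hm => (e x hx m hm).symm)))
    obtain ⟨v, hv, hv1⟩ := (D.V a L).bot_or_exists_ne_one.resolve_left (D.trace_ne hL)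
    rcases hn.eq_bot_or_eq_top with e | e
    · exact hv1 (mem_bot.1 (e ▸ D.trace_mem hL hv))
    · have : a ∈ center G := mem_center_iff.2 fun g =>
        mem_centralizer_singleton_iff.1 (D.le_cent hL (e.ge (mem_top g)))
      rw [h.center_eq_bot, mem_bot] at this
      exact (D.mem hL).2 this
  · have h0 := h.eq_bot_of_normalized hHt hcent
    refine h.exists_not_le_normalizer fun a ha ha1 => (D.gen a ha ha1).trans (sup_le ?_ inf_le_right)
    exact ((iSup_le fun L => hle L.2).trans h0.le).trans bot_le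

end Comps

end CfsgLib.Gold.Phi
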