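import Cfsg.Agent.Lib.Goldschmidt.Phi.Balance
import Cfsg.Agent.Lib.Goldschmidt.Phi.Blocks
import Cfsg.Agent.Lib.Goldschmidt.Phi.End
import Cfsg.Agent.Lib.Goldschmidt.Comp.Lift

/-!
# Strongly closed abelian `2`-subgroups: the Frattini case

`W` is normalized by all the centralizers, so the cores are trivial; then the met components are subgroups
of `G` and `Comps.false_of_setting` applies.
-/

set_option autoImplicit false
set_option linter.style.haveILetI false

namespace CfsgLib.Gold.Phi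

open Subgroup
open scoped commutatorElement
open CfsgLib.Walter.Rank (CQ proj pre mem_pre mem_pre_iff pre_le)

universe u

variable {G : Type u} [Group G] [Finite G] {S : Sylow 2 G} {A : Subgroup G}

/-- A subgroup containing the core, the met components and `C(a) ∩ N(A)` contains `C(a)`. -/
theorem centralizer_le (h : Setting S A) (hC : CompFacts A) {a : G} (ha : a ∈ A) (ha1 : a ≠ 1) {H : Subgroup G}
    (hcore : Cfsg.centralizerPPrimeCore 2 a ≤ H) (hmet : ∀ K : Subgroup (CQ a), IsMet A a K → pre a K ≤ H)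
    (hN : centralizer ({a} : Set G) ⊓ normalizer (A : Set G) ≤ H) : centralizer ({a} : Set G) ≤ H := by
  haveI := Fact.mk Nat.prime_two
  set C := centralizer ({a} : Set G)
  set M := (H.subgroupOf C).map (proj a)
  have hlift : ∀ x ∈ normalizer (img A a : Set (CQ a)), x ∈ M := by
    intro x hx
    obtain ⟨g, hg, rfl⟩ := h.exists_lift ha hx
    exact mem_map_of_mem _ (mem_subgroupOf.2 (hN ⟨g.2, hg⟩))
  have hcomp : ∀ K : Subgroup (CQ a), Cfsg.IsComponent K → K ≤ M := by
    intro K hK x hx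
    by_cases hm : img A a ≤ centralizer (K : Set (CQ a))
    · exact hlift x (centralizer_le_normalizer _ (le_centralizer_iff.1 hm hx))
    · obtain ⟨g, rfl⟩ := QuotientGroup.mk'_surjective _ x
      exact mem_map_of_mem _ (mem_subgroupOf.2 (hmet K ⟨hK, hm⟩ ((mem_pre_iff g.2).2 hx)))
  have hO : Cfsg.pCore 2 (CQ a) ≤ M := by
    intro x hx
    obtain ⟨P, hP⟩ := h.exists_sylow_img ha
    exact hlift x (CfsgLib.SECrit.sylow_le_normalizer_of_stronglyClosed P hP
      (CfsgLib.Coprime.pCore_le_sylow P hx))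
  haveI := CfsgLib.Coprime.pCore_normal' (G := CQ a) 2
  haveI := CfsgLib.Coprime.layer_normal (G := CQ a)
  have hNM : Cfsg.layer (CQ a) ⊔ Cfsg.pCore 2 (CQ a) ≤ M := sup_le (sSup_le hcomp) hO
  have ho := h.orderOf_eq ha ha1
  refine (hC.frattini a ha ho (Cfsg.layer (CQ a) ⊔ Cfsg.pCore 2 (CQ a)) inferInstance
    ((hC.le_sup a ha ho).trans (sup_le_sup_right (sSup_le_sSup fun K hK => hK.1) _))).trans (sup_le ?_ hN)
  intro x hx
  obtain ⟨hxC, hxN⟩ := mem_pre.1 hx
  obtain ⟨y, hy, e⟩ := hNM hxN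
  have h1 : y⁻¹ * ⟨x, hxC⟩ ∈ Cfsg.pPrimeCore 2 ↥C := QuotientGroup.eq.1 e
  have h2 : ((y⁻¹ * ⟨x, hxC⟩ : C) : G) ∈ H := hcore ⟨_, h1, rfl⟩
  simpa using mul_mem (mem_subgroupOf.1 hy) h2

variable (h : Setting S A) (hC : CompFacts A) (hP : PairFacts A)
  (hphi : A ≤ sqGen (centA (S : Subgroup G) A)) (hF : RankOneFactsStmt.{u})
include h hC hP hphi hF

/-- All the centralizers normalize `W`. -/
theorem centralizer_le_normalizer_setW {a : G} (ha : a ∈ A) (ha1 : a ≠ 1) :
    centralizer ({a} : Set G) ≤ normalizer (W A : Set G) := by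
  refine centralizer_le h hC ha ha1 ((core_le_W ha ha1).trans le_normalizer) (fun K hK => ?_)
    (inf_le_right.trans normalizer_le_normalizer_W)
  have hp := hC.isPairAt a ha (h.orderOf_eq ha ha1) K hK
  refine pre_le_normalizer_W h (balanced h hC hphi hF) ha ha1 inf_le_right
    (four_le_left h hC hP hphi hF hp) fun j hj q hq hqC => ?_
  exact mem_centralizer_iff.1 ((mem_pre_iff hqC).1 hq.1) j hj

/-- All the cores are trivial. -/
theorem core_trivial (h8 : 8 ≤ Nat.card A) {a : G} (ha : a ∈ A) (ha1 : a ≠ 1) :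
    Cfsg.pPrimeCore 2 (centralizer ({a} : Set G)) = ⊥ :=
  core_eq_bot h h8 (balanced h hC hphi hF)
    (fun _ hb hb1 => centralizer_le_normalizer_setW h hC hP hphi hF hb hb1) ha ha1

omit [Finite G] h hC hP hphi hF in
theorem proj_injective {a : G} (hO : Cfsg.pPrimeCore 2 (centralizer ({a} : Set G)) = ⊥) :
    Function.Injective (proj a) :=
  (MonoidHom.ker_eq_bot_iff _).1 (by rw [QuotientGroup.ker_mk', hO])

omit [Finite G] h hC hP hphi hF in
theorem commute_of_pre {a x l : G} (hO : Cfsg.pPrimeCore 2 (centralizer ({a} : Set G)) = ⊥)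
    {K : Subgroup (CQ a)} (hx : x ∈ pre a (centralizer (K : Set (CQ a)))) (hl : l ∈ pre a K) : Commute x l := by
  obtain ⟨hxC, hxK⟩ := mem_pre.1 hx
  obtain ⟨hlC, hlK⟩ := mem_pre.1 hl
  have e : proj a (⟨x, hxC⟩ * ⟨l, hlC⟩) = proj a (⟨l, hlC⟩ * ⟨x, hxC⟩) := by
    rw [map_mul, map_mul]
    exact (mem_centralizer_iff.1 hxK _ hlK).symm
  exact congrArg Subtype.val (proj_injective hO e)

omit [Finite G] h hC hP hphi hF in
theorem conj_mem_centralizer {a n x : G} (hx : x ∈ centralizer ({a} : Set G)) :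
    n * x * n⁻¹ ∈ centralizer ({n * a * n⁻¹} : Set G) := by
  refine mem_centralizer_singleton_iff.2 ?_
  rw [show n * x * n⁻¹ * (n * a * n⁻¹) = n * (x * a) * n⁻¹ by group, mem_centralizer_singleton_iff.1 hx]
  group

omit hC hP hphi hF in
/-- Transport of a met component. -/
theorem exists_met_conj (hO : ∀ b ∈ A, b ≠ 1 → Cfsg.pPrimeCore 2 (centralizer ({b} : Set G)) = ⊥) {a n : G}
    (hn : n ∈ normalizer (A : Set G)) (ha : a ∈ A) (ha1 : a ≠ 1) {K : Subgroup (CQ a)} (hK : IsMet A a K) :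
    ∃ K' : Subgroup (CQ (n * a * n⁻¹)), IsMet A (n * a * n⁻¹) K' ∧
      (pre a K).map (MulAut.conj n).toMonoidHom = pre (n * a * n⁻¹) K' := by
  set a' := n * a * n⁻¹ with ha'def
  have ha' : a' ∈ A := (mem_normalizer_iff.1 hn a).1 ha
  have ha1' : a' ≠ 1 := fun e => ha1 (by simpa [ha'def] using e)
  let ψ : centralizer ({a} : Set G) ≃* centralizer ({a'} : Set G) :=
    { toFun := fun x => ⟨n * (x : G) * n⁻¹, conj_mem_centralizer x.2⟩
      invFun := fun x => ⟨n⁻¹ * (x : G) * n, by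
        simpa [ha'def, mul_assoc] using conj_mem_centralizer (n := n⁻¹) x.2⟩
      left_inv := fun x => Subtype.ext (by simp [mul_assoc])
      right_inv := fun x => Subtype.ext (by simp [mul_assoc])
      map_mul' := fun x y => Subtype.ext (by simp [mul_assoc]) }
  let e := MulEquiv.ofBijective (proj a) ⟨proj_injective (hO a ha ha1), QuotientGroup.mk'_surjective _⟩
  let e' := MulEquiv.ofBijective (proj a') ⟨proj_injective (hO a' ha' ha1'), QuotientGroup.mk'_surjective _⟩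
  let Ψ : CQ a ≃* CQ a' := e.symm.trans (ψ.trans e')
  have hΨ : ∀ x, Ψ (proj a x) = proj a' (ψ x) := fun x => by
    show e' (ψ (e.symm (e x))) = e' (ψ x)
    rw [MulEquiv.symm_apply_apply]
  refine ⟨K.map Ψ.toMonoidHom, ⟨CfsgLib.Coprime.isComponent_map_equiv Ψ hK.1, fun hc => hK.2 ?_⟩, ?_⟩
  · intro x hx
    obtain ⟨v, hv, rfl⟩ := (h.mem_img_iff ha).1 hx
    refine mem_centralizer_iff.2 fun k hk => Ψ.injective ?_
    rw [map_mul, map_mul]
    refine mem_centralizer_iff.1 (hc ?_) (Ψ k) ⟨k, hk, rfl⟩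
    rw [hΨ]
    exact ⟨_, mem_subgroupOf.2 ((mem_normalizer_iff.1 hn v).1 hv), rfl⟩
  · ext g
    constructor
    · rintro ⟨x, hx, rfl⟩
      obtain ⟨hxC, hxK⟩ := mem_pre.1 hx
      refine mem_pre.2 ⟨(ψ ⟨x, hxC⟩).2, ?_⟩
      exact ⟨_, hxK, hΨ ⟨x, hxC⟩⟩
    · intro hg
      obtain ⟨hgC, k, hk, e1⟩ := mem_pre.1 hg
      obtain ⟨x, rfl⟩ := QuotientGroup.mk'_surjective _ k
      have e2 : ψ x = ⟨g, hgC⟩ := proj_injective (hO a' ha' ha1') ((hΨ x).symm.trans e1)
      exact ⟨x, (mem_pre_iff x.2).2 hk, congrArg Subtype.val e2⟩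

/-- The components when the cores are trivial. -/
theorem false_of_trivial_cores (hO : ∀ b ∈ A, b ≠ 1 → Cfsg.pPrimeCore 2 (centralizer ({b} : Set G)) = ⊥) :
    False := by
  have hpair : ∀ {a : G}, a ∈ A → a ≠ 1 → ∀ {K : Subgroup (CQ a)}, IsMet A a K →
      IsPairAt A a (pre a (centralizer (K : Set (CQ a))) ⊓ A) (pre a K ⊓ A) :=
    fun {a} ha ha1 {K} hK => hC.isPairAt a ha (h.orderOf_eq ha ha1) K hK
  refine Comps.false_of_setting h
    { P := fun a L => a ∈ A ∧ a ≠ 1 ∧ ∃ K : Subgroup (CQ a), IsMet A a K ∧ L = pre a K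
      V := fun _ L => L ⊓ A
      mem := fun hp => ⟨hp.1, hp.2.1⟩
      le_cent := ?_, perfect := ?_, trace_le := fun _ => inf_le_right, trace_faithful := ?_
      trace_ne := ?_, split := ?_, generate := ?_, trace_mem := fun _ => inf_le_left
      sep := ?_, cross := ?_, third := ?_, gen := ?_, conj := ?_ }
  · rintro a _ ⟨-, -, K, -, rfl⟩
    exact pre_le a K
  · rintro a _ ⟨ha, ha1, K, hK, rfl⟩
    have h1 : ⁅K, K⁆ = K := by
      haveI := hK.1.2.1
      conv_lhs => rw [← map_subtype_commutator K, Group.IsPerfect.commutator_eq_top]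
      rw [← MonoidHom.range_eq_map, range_subtype]
    have h2 : ⁅K.comap (proj a), K.comap (proj a)⁆ = K.comap (proj a) := by
      apply map_injective (proj_injective (hO a ha ha1))
      rw [map_commutator, map_comap_eq_self_of_surjective (QuotientGroup.mk'_surjective _), h1]
    rw [pre, ← map_commutator, h2]
  · rintro a _ ⟨ha, ha1, K, hK, rfl⟩ v hv hc
    obtain ⟨hvC, hvK⟩ := mem_pre.1 hv.1
    have h1 := component_inf_centralizer_eq_one h hC ha ha1 hK hvK (mem_centralizer_iff.2 fun k hk => by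
      obtain ⟨l, rfl⟩ := QuotientGroup.mk'_surjective _ k
      rw [← map_mul, ← map_mul]
      exact congrArg _ (Subtype.ext (hc _ ((mem_pre_iff l.2).2 hk)).eq.symm))
    exact congrArg Subtype.val (proj_injective (hO a ha ha1) (h1.trans (map_one _).symm))
  · rintro a _ ⟨ha, ha1, K, hK, rfl⟩
    exact (hpair ha ha1 hK).2.1
  · rintro a _ ⟨ha, ha1, K, hK, rfl⟩ x hx
    obtain ⟨v', hv', hvc⟩ := hC.split a ha (h.orderOf_eq ha ha1) K hK.1 _ (h.proj_mem_img ha hx)
    obtain ⟨v, hv, rfl⟩ := (h.mem_img_iff ha).1 hv'.1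
    refine ⟨v, ⟨(mem_pre_iff _).2 hv'.2, hv⟩, fun l hl => commute_of_pre (hO a ha ha1) (mem_pre.2
      ⟨mul_mem (h.mem_centralizer ha hx) (inv_mem (h.mem_centralizer ha hv)), ?_⟩) hl⟩
    rw [← map_inv, ← map_mul] at hvc
    exact hvc
  · rintro a _ ⟨ha, ha1, K, hK, rfl⟩ M hM
    obtain ⟨hs, hn, -⟩ := hC.form a ha (h.orderOf_eq ha ha1) K hK
    haveI := hs
    set D : Subgroup K := ⁅(⊤ : Subgroup K), (img A a).subgroupOf K⁆ with hD
    haveI : D.Normal := normalizer_eq_top_iff.1 (top_unique (normalizer_commutator_ge_left ⊤ _))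
    rcases (inferInstance : D.Normal).eq_bot_or_eq_top with e | e
    · exfalso
      obtain ⟨v, hv, hvK, hv1⟩ := exists_trace h hC ha ha1 hK
      refine hv1 (component_inf_centralizer_eq_one h hC ha ha1 hK hvK (mem_centralizer_iff.2 fun k hk => ?_))
      exact congrArg Subtype.val (mem_centralizer_iff.1 ((commutator_eq_bot_iff_le_centralizer.1 e)
        (mem_top (⟨k, hk⟩ : K))) ⟨v, hvK⟩ hv).symm
    · intro l hl
      obtain ⟨hlC, hlK⟩ := mem_pre.1 hl
      have hle : D.map K.subtype ≤ (M.subgroupOf (centralizer ({a} : Set G))).map (proj a) := by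
        rw [hD, map_commutator]
        refine commutator_le.2 ?_
        rintro _ ⟨k, -, rfl⟩ _ ⟨w, hw, rfl⟩
        obtain ⟨v, hv, ev⟩ := (h.mem_img_iff ha).1 (mem_subgroupOf.1 hw)
        obtain ⟨j, ej⟩ := QuotientGroup.mk'_surjective _ (k : CQ a)
        refine ⟨⁅j, ⟨v, h.mem_centralizer ha hv⟩⁆, mem_subgroupOf.2 ?_, ?_⟩
        · rw [show ((⁅j, (⟨v, h.mem_centralizer ha hv⟩ : centralizer ({a} : Set G))⁆ :
              centralizer ({a} : Set G)) : G) = ⁅(j : G), v⁆ from map_commutatorElement (Subgroup.subtype _) _ _]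
          exact hM _ ((mem_pre_iff j.2).2 (show proj a j ∈ K from ej ▸ k.2)) v
            ⟨(mem_pre_iff _).2 (show proj a ⟨v, _⟩ ∈ K from ev ▸ w.2), hv⟩
        · rw [map_commutatorElement, ev, show proj a j = (k : CQ a) from ej]
          rfl
      rw [e] at hle
      obtain ⟨y, hy, ey⟩ := hle (mem_map_of_mem K.subtype (mem_top (⟨_, hlK⟩ : K)))
      rw [show l = (y : G) from (congrArg Subtype.val (proj_injective (hO a ha ha1) ey)).symm]
      exact hy
  · rintro a _ _ ⟨ha, ha1, K, hK, rfl⟩ ⟨-, -, K', hK', rfl⟩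
    by_cases e : K = K'
    · exact Or.inl (e ▸ rfl)
    · refine Or.inr fun l hl l' hl' => commute_of_pre (hO a ha ha1) (mem_pre.2 ?_) hl'
      obtain ⟨hlC, hlK⟩ := mem_pre.1 hl
      exact ⟨hlC, commutator_eq_bot_iff_le_centralizer.1
        (CfsgLib.Coprime.components_commute hK.1 hK'.1 e) hlK⟩
  · rintro a _ b _ ⟨ha, ha1, K, hK, rfl⟩ ⟨hb, hb1, K', hK', rfl⟩
    exact (trace_cross h hC hphi hF (hpair ha ha1 hK) (hpair hb hb1 hK')).imp_right fun ⟨x, y⟩ =>
      ⟨fun v hv l hl => commute_of_pre (hO b hb hb1) (y hv).1 hl,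
        fun v hv l hl => commute_of_pre (hO a ha ha1) (x hv).1 hl⟩
  · rintro a _ b _ ⟨ha, ha1, K, hK, rfl⟩ ⟨hb, hb1, K', hK', rfl⟩
    obtain ⟨r, hr, hr1, hrR, hrR'⟩ := exists_common h hC hP hphi hF (hpair ha ha1 hK) (hpair hb hb1 hK')
    exact ⟨r, hr, hr1, fun l hl => commute_of_pre (hO a ha ha1) hrR.1 hl,
      fun l hl => commute_of_pre (hO b hb hb1) hrR'.1 hl⟩
  · intro a ha ha1
    refine centralizer_le h hC ha ha1 ?_ (fun K hK => ?_) le_sup_right
    · rintro _ ⟨y, hy, rfl⟩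
      have hy1 : y = 1 := mem_bot.1 ((hO a ha ha1).le hy)
      rw [hy1, map_one]
      exact one_mem _
    · exact le_sup_of_le_left (le_iSup (fun L : {L : Subgroup G //
        a ∈ A ∧ a ≠ 1 ∧ ∃ K : Subgroup (CQ a), IsMet A a K ∧ L = pre a K} => (L : Subgroup G))
          ⟨pre a K, ha, ha1, K, hK, rfl⟩)
  · rintro a _ ⟨ha, ha1, K, hK, rfl⟩ n hn
    obtain ⟨K', hK', e⟩ := exists_met_conj h hO hn ha ha1 hK
    exact ⟨(mem_normalizer_iff.1 hn a).1 ha, fun e' => ha1 (by simpa using e'), K', hK', e⟩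

omit [Finite G] h hC hP hphi hF in
/-- The Frattini case, given the three obligations. -/
theorem casePhiStmt_of (hC : CompFactsStmt.{u}) (hP : PairFactsStmt.{u}) (hF : RankOneFactsStmt.{u}) :
    CasePhiStmt.{u} := fun G _ _ S A h h8 hphi =>
  false_of_trivial_cores h (hC G S A h) (hP G S A h) hphi hF
    fun _ hb hb1 => core_trivial h (hC G S A h) (hP G S A h) hphi hF h8 hb hb1

end CfsgLib.Gold.Phi
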