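import Cfsg.Agent.Lib.Goldschmidt.Setup
import Cfsg.Agent.Lib.Coprime.LBalance.LocalBalance
import Cfsg.Agent.Lib.SolvSignalizer.Main
import Cfsg.Agent.Lib.FT.NoMinSimple
import Cfsg.Agent.Lib.Walter.Rank.Setup

/-!
# Strongly closed abelian `2`-subgroups: the subgroup generated by the cores in the balanced case

`W` is generated by the cores of the centralizers of `A#`. When `A` is balanced and has rank at least three it
is odd, it is generated by the cores at any subgroup of order at least four of `A`, so it is normalized by the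
centralizers of these subgroups, and by every part of a `C(a) / O(C a)` centralized by one of them.
-/

set_option autoImplicit false
set_option linter.style.haveILetI false

namespace CfsgLib.Gold.Phi

open Subgroup

universe u

variable {G : Type u} [Group G]

/-- `A` is balanced. -/
def Balanced (A : Subgroup G) : Prop :=
  ∀ a ∈ A, a ≠ 1 → ∀ b ∈ A, b ≠ 1 →
    Cfsg.centralizerPPrimeCore 2 a ⊓ centralizer ({b} : Set G) ≤ Cfsg.centralizerPPrimeCore 2 b

/-- The subgroup generated by the cores. -/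
def W (A : Subgroup G) : Subgroup G :=
  ⨆ a : {a : G // a ∈ A ∧ a ≠ 1}, Cfsg.centralizerPPrimeCore 2 (a : G)

theorem core_le_W {A : Subgroup G} {a : G} (ha : a ∈ A) (ha1 : a ≠ 1) :
    Cfsg.centralizerPPrimeCore 2 a ≤ W A :=
  le_iSup (fun a : {a : G // a ∈ A ∧ a ≠ 1} => Cfsg.centralizerPPrimeCore 2 (a : G)) ⟨a, ha, ha1⟩

variable [Finite G]

theorem core_odd (a : G) : ¬ 2 ∣ Nat.card (Cfsg.centralizerPPrimeCore 2 a) := by
  haveI := Fact.mk Nat.prime_two
  rw [Cfsg.centralizerPPrimeCore, card_map_of_injective (subtype_injective _)]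
  exact CfsgLib.Coprime.pPrimeCore_not_dvd Nat.prime_two

theorem core_le_centralizer (a : G) : Cfsg.centralizerPPrimeCore 2 a ≤ centralizer ({a} : Set G) :=
  map_subtype_le _

theorem conj_mem_core {a g x : G} (hx : x ∈ Cfsg.centralizerPPrimeCore 2 a) :
    g * x * g⁻¹ ∈ Cfsg.centralizerPPrimeCore 2 (g * a * g⁻¹) := by
  haveI := Fact.mk Nat.prime_two
  have h := CfsgLib.Coprime.map_centralizerPPrimeCore_equiv (p := 2) (MulAut.conj g) a
  rw [show MulAut.conj g a = g * a * g⁻¹ from rfl] at h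
  rw [← h]
  exact mem_map_of_mem _ hx

theorem le_normalizer_core {A : Subgroup G} (hA : ∀ x ∈ A, ∀ y ∈ A, Commute x y) {a : G} (ha : a ∈ A) :
    A ≤ normalizer (Cfsg.centralizerPPrimeCore 2 a : Set G) := fun b hb =>
  mem_normalizer_fintype fun x hx => by
    have h := conj_mem_core (g := b) hx
    rwa [show b * a * b⁻¹ = a by rw [(hA b hb a ha).eq, mul_inv_cancel_right]] at h

variable {S : Sylow 2 G} {A : Subgroup G}

theorem W_odd (h : Setting S A) (h8 : 8 ≤ Nat.card A) (hbal : Balanced A) : ¬ 2 ∣ Nat.card (W A) := by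
  haveI := Fact.mk Nat.prime_two
  have hθ : Cfsg.IsSolvableSignalizerFunctor 2 A (Cfsg.centralizerPPrimeCore 2) :=
    ⟨⟨fun a _ _ => core_le_centralizer a, fun a _ _ => core_odd a,
      fun a ha _ b hb x hx => (mem_normalizer_iff.1
        (le_normalizer_core (fun _ p _ q => h.commute_mem p q) ha hb) x).1 hx, hbal⟩,
      fun a _ _ => CfsgLib.FT.isSolvable_of_odd _
        (Nat.not_even_iff_odd.1 fun e => core_odd a (even_iff_two_dvd.1 e))⟩
  obtain ⟨X, hX, hXθ⟩ := CfsgLib.SolvSignalizer.exists_complete h.elementary (by norm_num; omega) hθ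
  exact fun e => hX.2.1 (e.trans (card_dvd_of_le (iSup_le fun a => hXθ a a.2.1 a.2.2)))

theorem normalizer_le_normalizer_W : normalizer (A : Set G) ≤ normalizer (W A : Set G) := fun n hn =>
  mem_normalizer_fintype fun x hx => by
    have h : W A ≤ (W A).comap (MulAut.conj n).toMonoidHom := iSup_le fun a y hy =>
      core_le_W (A := A) ((mem_normalizer_iff.1 hn a).1 a.2.1) (fun e => a.2.2 (by simpa using e))
        (conj_mem_core hy)
    exact h hx

/-- The centralizer of a subgroup of order at least four of `A` normalizes `W`. -/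
theorem centralizer_le_normalizer_W (h : Setting S A) (hbal : Balanced A) {B : Subgroup G} (hB : B ≤ A)
    (h4 : 4 ≤ Nat.card B) : centralizer (B : Set G) ≤ normalizer (W A : Set G) := by
  haveI := Fact.mk Nat.prime_two
  have hBe : Cfsg.IsElementaryAbelian 2 B :=
    ⟨isMulCommutative_iff.2 fun a b => Subtype.ext (h.commute_mem (hB a.2) (hB b.2)),
      fun b hb => by rw [_root_.sq]; exact h.sq b (hB hb)⟩
  have hgen : W A ≤ ⨆ b : {b : G // b ∈ B ∧ b ≠ 1}, Cfsg.centralizerPPrimeCore 2 (b : G) := by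
    refine iSup_le fun a => CfsgLib.SolvSignalizer.le_of_fixed_points hBe (by norm_num; omega)
      (hB.trans (le_normalizer_core (fun _ p _ q => h.commute_mem p q) a.2.1)) (core_odd _) fun b hb hb1 => ?_
    exact (hbal a a.2.1 a.2.2 b (hB hb) hb1).trans
      (le_iSup (fun b : {b : G // b ∈ B ∧ b ≠ 1} => Cfsg.centralizerPPrimeCore 2 (b : G)) ⟨b, hb, hb1⟩)
  intro c hc
  refine mem_normalizer_fintype fun x hx => ?_
  have hle : (⨆ b : {b : G // b ∈ B ∧ b ≠ 1}, Cfsg.centralizerPPrimeCore 2 (b : G)) ≤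
      (W A).comap (MulAut.conj c).toMonoidHom := iSup_le fun b y hy => by
    have h1 := conj_mem_core (g := c) hy
    rw [show c * (b : G) * c⁻¹ = b by rw [← mem_centralizer_iff.1 hc b b.2.1, mul_inv_cancel_right]] at h1
    exact core_le_W (hB b.2.1) b.2.2 h1
  exact hle (hgen hx)

open CfsgLib.Walter.Rank in
/-- A part of `C(a) / O(C a)` centralized by a subgroup of order at least four of `A` normalizes `W`. -/
theorem pre_le_normalizer_W (h : Setting S A) (hbal : Balanced A) {a : G} (ha : a ∈ A) (ha1 : a ≠ 1)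
    {B : Subgroup G} (hB : B ≤ A) (h4 : 4 ≤ Nat.card B) {J : Subgroup (CQ a)}
    (hJ : ∀ j ∈ J, ∀ q ∈ B, ∀ hq : q ∈ centralizer ({a} : Set G), Commute j (proj a ⟨q, hq⟩)) :
    pre a J ≤ normalizer (W A : Set G) := by
  haveI := Fact.mk Nat.prime_two
  set C := centralizer ({a} : Set G) with hC
  have hBC : B ≤ C := fun b hb => mem_centralizer_singleton_iff.2 (h.commute_mem (hB hb) ha)
  intro g hg
  obtain ⟨hgC, hgJ⟩ := mem_pre.1 hg
  have hBp : IsPGroup 2 B := (S.2.to_le h.le_sylow).to_le hB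
  have hcomm : ∀ s ∈ B.subgroupOf C, (⟨g, hgC⟩ : C) * s * (⟨g, hgC⟩ : C)⁻¹ * s⁻¹ ∈ Cfsg.pPrimeCore 2 ↥C := by
    intro s hs
    rw [← QuotientGroup.eq_one_iff]
    show proj a ((⟨g, hgC⟩ : C) * s * (⟨g, hgC⟩ : C)⁻¹ * s⁻¹) = 1
    rw [map_mul, map_mul, map_mul, map_inv, map_inv,
      show proj a ⟨g, hgC⟩ * proj a s = proj a s * proj a ⟨g, hgC⟩ from (hJ _ hgJ s hs s.2).eq,
      mul_inv_cancel_right, mul_inv_cancel]
  obtain ⟨v, hv, hvc⟩ := CfsgLib.Coprime.exists_mul_mem_centralizer (p := 2)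
    (V := Cfsg.pPrimeCore 2 ↥C) (CfsgLib.Coprime.pPrimeCore_coprime Nat.prime_two)
    (hBp.comap_of_injective C.subtype C.subtype_injective)
    (by rw [Subgroup.normalizer_eq_top]; exact le_top) hcomm
  have h1 : (v : G) * g ∈ normalizer (W A : Set G) :=
    centralizer_le_normalizer_W h hbal hB h4 (mem_centralizer_iff.2 fun q hq =>
      congrArg Subtype.val (mem_centralizer_iff.1 hvc ⟨q, hBC hq⟩ (mem_subgroupOf.2 hq)))
  have h2 : (v : G) ∈ normalizer (W A : Set G) :=
    le_normalizer (core_le_W ha ha1 (mem_map_of_mem C.subtype hv))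
  simpa using mul_mem (inv_mem h2) h1

open CfsgLib.Walter.Rank in
/-- When every `C(a)` normalizes `W`, all the cores are trivial. -/
theorem core_eq_bot (h : Setting S A) (h8 : 8 ≤ Nat.card A) (hbal : Balanced A)
    (hcent : ∀ a ∈ A, a ≠ 1 → centralizer ({a} : Set G) ≤ normalizer (W A : Set G)) {a : G} (ha : a ∈ A)
    (ha1 : a ≠ 1) : Cfsg.pPrimeCore 2 (centralizer ({a} : Set G)) = ⊥ := by
  have hW : W A ≠ ⊤ := fun e => W_odd h h8 hbal (by rw [e, Subgroup.card_top]; exact h.two_dvd_card)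
  have h1 : Cfsg.centralizerPPrimeCore 2 a ≤ ⊥ := (core_le_W ha ha1).trans (h.eq_bot_of_normalized hW hcent).le
  exact (map_eq_bot_iff_of_injective _ (subtype_injective _)).1 (le_bot_iff.1 h1)

end CfsgLib.Gold.Phi
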