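import Cfsg.Agent.Lib.Goldschmidt.Phi.Model
import Cfsg.Agent.Lib.Goldschmidt.Phi.Signalizer

/-!
# Strongly closed abelian `2`-subgroups, the Frattini case: `A` is balanced
-/

set_option autoImplicit false
set_option linter.style.haveILetI false

namespace CfsgLib.Gold.Phi

open Subgroup
open scoped commutatorElement
open CfsgLib.Walter.Rank (CQ proj pre mem_pre)

universe u

variable {G : Type u} [Group G] [Finite G] {S : Sylow 2 G} {A : Subgroup G}

/-- The core of the centralizer of an element of the image of `A` is trivial. -/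
theorem core_img_eq_bot (h : Setting S A) (hC : CompFacts A)
    (hphi : A ≤ sqGen (centA (S : Subgroup G) A)) (hF : RankOneFactsStmt.{u}) {b : G} (hb : b ∈ A)
    (hb1 : b ≠ 1) {x : CQ b} (hx : x ∈ img A b) :
    CfsgLib.Coprime.coreIn 2 (centralizer ({x} : Set (CQ b))) = ⊥ := by
  haveI := Fact.mk Nat.prime_two
  have hO := CfsgLib.Walter.Rank.cq_core b
  have hb2 := h.orderOf_eq hb hb1
  have hxp : IsPGroup 2 (zpowers x) := CfsgLib.Coprime.isPGroup_zpowers (p := 2) (k := 1)
    (by rw [pow_one, _root_.sq]; exact img_sq h hb hx)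
  obtain ⟨hcop, hBC, hBO, -, -⟩ := CfsgLib.Coprime.coreCentralizer_data hxp _ rfl
  rw [CfsgLib.Coprime.centralizer_zpowers_eq] at hcop hBC hBO
  set B := CfsgLib.Coprime.coreIn 2 (centralizer ({x} : Set (CQ b))) with hB
  have hcomp : ∀ K : Subgroup (CQ b), Cfsg.IsComponent K → B ≤ centralizer (K : Set (CQ b)) := by
    intro K hK
    have hcent : x ∈ centralizer (K : Set (CQ b)) → B ≤ centralizer (K : Set (CQ b)) := fun hxK => by
      have := CfsgLib.Coprime.coreCentralizer_le_centralizer_of_centralized (p := 2) hO hK hxK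
      rwa [CfsgLib.Coprime.centralizerPPrimeCore_eq, CfsgLib.Coprime.centralizer_zpowers_eq] at this
    by_cases hm : img A b ≤ centralizer (K : Set (CQ b))
    · exact hcent (hm hx)
    obtain ⟨v, hv, hvc⟩ := hC.split b hb hb2 K hK x hx
    by_cases hv1 : v = 1
    · exact hcent (by rwa [hv1, inv_one, mul_one] at hvc)
    obtain ⟨R, hRf, -, hRA⟩ := exists_sylow h hC hphi hF hb hb1 ⟨hK, hm⟩
    obtain ⟨hvR, hv2⟩ := (hRA ⟨v, hv.2⟩).1 hv.1
    have hcomm : ∀ k : K, Commute (x * v⁻¹) (k : CQ b) := fun k => (mem_centralizer_iff.1 hvc k k.2).symm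
    -- the centralizers of `x` and `v` in `K` agree
    have hiff : ∀ k : K, (k : CQ b) ∈ centralizer ({x} : Set (CQ b)) ↔
        k ∈ centralizer ({⟨v, hv.2⟩} : Set K) := by
      intro k
      rw [mem_centralizer_singleton_iff, mem_centralizer_singleton_iff]
      have hc := hcomm k
      constructor
      · intro hk
        refine Subtype.ext ?_
        have h1 : Commute ((x * v⁻¹)⁻¹ * x) (k : CQ b) := hc.inv_left.mul_left (show Commute x k from hk.symm)
        rw [show (x * v⁻¹)⁻¹ * x = v by group] at h1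
        exact h1.eq.symm
      · intro hk
        have h1 : Commute v (k : CQ b) := (congrArg Subtype.val hk).symm
        have h2 := hc.mul_left h1
        rw [inv_mul_cancel_right] at h2
        exact h2.eq.symm
    have hnK : B ≤ normalizer (K : Set (CQ b)) := by
      have := CfsgLib.Coprime.coreCentralizer_le_normalizer_component hO hxp hK
      rwa [CfsgLib.Coprime.centralizer_zpowers_eq] at this
    have hCB : centralizer ({x} : Set (CQ b)) ≤ normalizer (B : Set (CQ b)) :=
      le_normalizer.trans (CfsgLib.Coprime.normalizer_le_normalizer_coreIn _ _)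
    intro y hy
    set α : MulAut K := normalizerMonoidHom K ⟨y, hnK hy⟩
    have hα : ∀ k : K, ((α k : K) : CQ b) = y * k * y⁻¹ := fun k => rfl
    have hv2' : orderOf (⟨v, hv.2⟩ : K) = 2 :=
      orderOf_eq_prime (by rw [_root_.sq]; exact hv2) fun e => hv1 (congrArg Subtype.val e)
    have hfix : ∀ k : K, k ∈ centralizer ({⟨v, hv.2⟩} : Set K) → α k = k := by
      intro k hk
      have hkC := (hiff k).2 hk
      set T : Subgroup K := B.subgroupOf K
      have hTle : T ≤ CfsgLib.Coprime.coreIn 2 (centralizer ({⟨v, hv.2⟩} : Set K)) := by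
        refine CfsgLib.Coprime.le_coreIn (fun j hj => (hiff j).1 (hBC hj)) ?_ ?_
        · intro j hj
          refine mem_normalizer_iff.2 fun t => ?_
          exact mem_normalizer_iff.1 (hCB ((hiff j).2 hj)) (t : CQ b)
        · refine hcop.coprime_dvd_left ?_
          rw [← card_map_of_injective K.subtype_injective]
          exact card_dvd_of_le (map_comap_le _ _)
      have hmem : α k * k⁻¹ ∈ T := by
        show ((α k * k⁻¹ : K) : CQ b) ∈ B
        rw [Subgroup.coe_mul, Subgroup.coe_inv, hα]
        have := mul_mem hy ((mem_normalizer_iff.1 (hCB hkC) _).1 (inv_mem hy))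
        simpa [mul_assoc] using this
      have h2 := hTle hmem
      have hbot : CfsgLib.Coprime.coreIn 2 (centralizer ({⟨v, hv.2⟩} : Set K)) = ⊥ := by
        show (Cfsg.pPrimeCore 2 _).map _ = ⊥
        rw [hRf.core _ hvR hv2', Subgroup.map_bot]
      rw [hbot, mem_bot] at h2
      exact mul_inv_eq_one.1 h2
    have hodd : Odd (orderOf α) := by
      have h1 : Odd (orderOf y) :=
        Nat.Coprime.odd_of_right (hcop.coprime_dvd_left (Subgroup.orderOf_dvd_natCard _ hy))
      exact h1.of_dvd_nat ((orderOf_map_dvd _ _).trans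
        (dvd_of_eq (Subgroup.orderOf_coe (⟨y, hnK hy⟩ : normalizer (K : Set (CQ b)))).symm))
    have h1 := hRf.odd_aut α hodd fun t ht =>
      hfix t (mem_centralizer_singleton_iff.2 (hRf.central _ hvR hv2 t ht).eq.symm)
    refine mem_centralizer_iff.2 fun k hk => ?_
    have h2 := hα ⟨k, hk⟩
    rw [h1] at h2
    exact (mul_inv_eq_iff_eq_mul.1 h2.symm).symm
  have hE : B ≤ centralizer (Cfsg.layer (CQ b) : Set (CQ b)) := by
    rw [le_centralizer_iff]
    exact sSup_le fun K hK => le_centralizer_iff.1 (hcomp K hK)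
  have hfit := CfsgLib.Coprime.fitting_eq_pCore_of_pPrimeCore_eq_bot hO
  have hFit : B ≤ centralizer (Cfsg.generalizedFittingSubgroup (CQ b) : Set (CQ b)) := by
    rw [le_centralizer_iff, Cfsg.generalizedFittingSubgroup, hfit]
    exact sup_le (le_centralizer_iff.1 hE) (le_centralizer_iff.1 hBO)
  have h1 : B ≤ Cfsg.pCore 2 (CQ b) := by
    rw [← hfit, ← CfsgLib.Coprime.generalizedFitting_inf_centralizer_layer]
    exact le_inf (hFit.trans CfsgLib.Coprime.centralizer_generalizedFitting_le) hE
  rw [eq_bot_iff, ← CfsgLib.Coprime.pPrime_inf_pGroup_eq_bot hcop (CfsgLib.Coprime.pCore_isPGroup 2)]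
  exact le_inf le_rfl h1

/-- `A` is balanced when the cores at its images are trivial. -/
theorem balanced_of_core_img (h : Setting S A)
    (hcore : ∀ b ∈ A, b ≠ 1 → ∀ x ∈ img A b,
      CfsgLib.Coprime.coreIn 2 (centralizer ({x} : Set (CQ b))) = ⊥) : Balanced A := by
  haveI := Fact.mk Nat.prime_two
  intro a ha ha1 b hb hb1 d hd
  set C := centralizer ({b} : Set G)
  have haC : a ∈ C := mem_centralizer_singleton_iff.2 (h.commute_mem ha hb)
  set B := Cfsg.centralizerPPrimeCore 2 a with hBdef
  have hle : ((B ⊓ C).subgroupOf C).map (proj b) ≤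
      CfsgLib.Coprime.coreIn 2 (centralizer ({proj b ⟨a, haC⟩} : Set (CQ b))) := by
    refine CfsgLib.Coprime.le_coreIn ?_ ?_ ?_
    · rintro _ ⟨c, hc, rfl⟩
      refine mem_centralizer_singleton_iff.2 ?_
      rw [← map_mul, ← map_mul]
      exact congrArg (proj b) (Subtype.ext
        (mem_centralizer_singleton_iff.1 (core_le_centralizer a (mem_subgroupOf.1 hc).1)))
    · intro z hz
      obtain ⟨g, rfl⟩ := QuotientGroup.mk'_surjective _ z
      have hcomm : ∀ s ∈ (zpowers a).subgroupOf C, g * s * g⁻¹ * s⁻¹ ∈ Cfsg.pPrimeCore 2 ↥C := by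
        intro s hs
        obtain ⟨i, hi⟩ := mem_zpowers_iff.1 (mem_subgroupOf.1 hs)
        have e : s = (⟨a, haC⟩ : C) ^ i := Subtype.ext (by rw [SubgroupClass.coe_zpow]; exact hi.symm)
        rw [← QuotientGroup.eq_one_iff]
        show proj b (g * s * g⁻¹ * s⁻¹) = 1
        rw [map_mul, map_mul, map_mul, map_inv, map_inv,
          show proj b g * proj b s = proj b s * proj b g from by
            rw [e, map_zpow]
            exact (Commute.zpow_right (show Commute (proj b g) (proj b ⟨a, haC⟩) from
              mem_centralizer_singleton_iff.1 hz) i).eq,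
          mul_inv_cancel_right, mul_inv_cancel]
      obtain ⟨v, hv, hvc⟩ := CfsgLib.Coprime.exists_mul_mem_centralizer (p := 2)
        (V := Cfsg.pPrimeCore 2 ↥C) (CfsgLib.Coprime.pPrimeCore_coprime Nat.prime_two)
        ((S.2.to_le (zpowers_le.2 (h.le_sylow ha))).comap_of_injective C.subtype C.subtype_injective)
        (by rw [Subgroup.normalizer_eq_top]; exact le_top) hcomm
      have hog : proj b (v * g) = proj b g := by
        rw [map_mul, show proj b v = 1 from (QuotientGroup.eq_one_iff v).2 hv, one_mul]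
      rw [← hog]
      refine le_normalizer_map (proj b) (mem_map_of_mem _ ?_)
      have hca : ((v * g : C) : G) ∈ centralizer ({a} : Set G) := mem_centralizer_singleton_iff.2
        (congrArg Subtype.val (mem_centralizer_iff.1 hvc ⟨a, haC⟩ (mem_subgroupOf.2 (mem_zpowers a)))).symm
      refine mem_normalizer_fintype fun c hc => ?_
      refine mem_subgroupOf.2 ⟨?_, SetLike.coe_mem _⟩
      have h3 := conj_mem_core (g := ((v * g : C) : G)) (mem_subgroupOf.1 hc).1
      rwa [show ((v * g : C) : G) * a * ((v * g : C) : G)⁻¹ = a by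
        rw [mem_centralizer_singleton_iff.1 hca, mul_inv_cancel_right]] at h3
    · refine Nat.Coprime.coprime_dvd_left (card_map_dvd _ (proj b)) ?_
      rw [Nat.card_congr (subgroupOfEquivOfLe inf_le_right).toEquiv]
      exact (CfsgLib.Coprime.coprime_card_coreIn Nat.prime_two (centralizer ({a} : Set G))).coprime_dvd_left
        (card_dvd_of_le inf_le_left)
  have hx : proj b ⟨a, haC⟩ ∈ img A b := mem_map_of_mem _ (mem_subgroupOf.2 ha)
  rw [hcore b hb hb1 _ hx, le_bot_iff, Subgroup.map_eq_bot_iff, QuotientGroup.ker_mk'] at hle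
  exact ⟨⟨d, hd.2⟩, hle (mem_subgroupOf.2 hd), rfl⟩

/-- `A` is balanced. -/
theorem balanced (h : Setting S A) (hC : CompFacts A) (hphi : A ≤ sqGen (centA (S : Subgroup G) A))
    (hF : RankOneFactsStmt.{u}) : Balanced A :=
  balanced_of_core_img h fun _ hb hb1 _ hx => core_img_eq_bot h hC hphi hF hb hb1 hx

end CfsgLib.Gold.Phi
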