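import Mathlib

/-!
# Strongly closed abelian `2`-subgroups, the Frattini case: two pairs

`T` is the Sylow subgroup of a component with nonabelian Sylow subgroups in the centralizer `U` of `A`,
`V = [T, T]` its trace in `A` and `C` the centralizer of the component in `U`. Two different traces lie in
the centralizers of each other's components.
-/

set_option autoImplicit false

namespace CfsgLib.Gold.Phi

open Subgroup
open scoped commutatorElement

variable {G : Type*} [Group G]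

/-- What is used of a component with Sylow subgroup `T`, trace `V` and centralizer `C` in `U`: either it is
unitary (`[x, T] = V` off `V`) or all of `U` induces inner automorphisms from `T` (Suzuki type, covers allowed). -/
structure Sep (U T V C : Subgroup G) : Prop where
  le : T ≤ U
  conj : ∀ u ∈ U, ∀ t ∈ T, u * t * u⁻¹ ∈ T
  sq : ∀ x ∈ V, x * x = 1
  comm : ⁅T, T⁆ = V
  comm_cent : ∀ t ∈ T, ∀ c ∈ C, Commute t c
  disj : V ⊓ C = ⊥
  span : ((∀ x ∈ T, x * x = 1 → x ∈ V) ∧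
      (∀ u ∈ U, (∀ t ∈ T, ⁅u, t⁆ ∈ V) → ∃ x ∈ T, ∃ c ∈ C, u = x * c) ∧
      ∀ x ∈ T, x ∉ V → ∀ N : Subgroup G, (∀ t ∈ T, ⁅x, t⁆ ∈ N) → V ≤ N) ∨
    ((∀ u ∈ U, ∃ x ∈ T, ∃ c ∈ C, u = x * c) ∧
      ∀ x ∈ T, ∀ y ∈ T, ¬ Commute x y → ∀ N : Subgroup G,
        (∀ t ∈ T, ⁅x, t⁆ ∈ N) → (∀ t ∈ T, ⁅y, t⁆ ∈ N) → V ≤ N)

variable {U T V C T' V' C' : Subgroup G}

theorem Sep.comm_mul (h : Sep U T V C) {x t c : G} (ht : t ∈ T) (hc : c ∈ C) :
    ⁅x * c, t⁆ = ⁅x, t⁆ := by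
  rw [commutatorElement_def, commutatorElement_def, mul_inv_rev,
    show x * c * t * (c⁻¹ * x⁻¹) * t⁻¹ = x * (c * t) * c⁻¹ * x⁻¹ * t⁻¹ by group,
    ← (h.comm_cent t ht c hc).eq]
  group

/-- A normal subgroup of `U` contains the trace or has its derived group in the centralizer. -/
theorem Sep.le_or (h : Sep U T V C) (hT' : T' ≤ U) (hn : ∀ u ∈ U, ∀ t ∈ T', u * t * u⁻¹ ∈ T') :
    V ≤ ⁅T', T⁆ ∨ ⁅T', T'⁆ ≤ C := by
  have hin : ∀ t' ∈ T', ∀ t ∈ T, ⁅t', t⁆ ∈ T ⊓ T' := fun t' ht' t ht => by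
    refine mem_inf.2 ⟨?_, ?_⟩
    · rw [commutatorElement_def]
      exact mul_mem (h.conj t' (hT' ht') t ht) (inv_mem ht)
    · rw [commutatorElement_def, show t' * t * t'⁻¹ * t⁻¹ = t' * (t * t'⁻¹ * t⁻¹) by group]
      exact mul_mem ht' (hn t (h.le ht) _ (inv_mem ht'))
  have hcomm : (∀ t' ∈ T', ∀ s ∈ T', ∀ x ∈ T, ∀ c ∈ C, ∀ y ∈ T, ∀ d ∈ C,
      t' = x * c → s = y * d → Commute x y) → (∀ t' ∈ T', ∃ x ∈ T, ∃ c ∈ C, t' = x * c) →
      ⁅T', T'⁆ ≤ C := by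
    intro hcx hdec
    refine commutator_le.2 fun t' ht' s hs => ?_
    obtain ⟨x, hx, c, hc, rfl⟩ := hdec t' ht'
    obtain ⟨y, hy, d, hd, rfl⟩ := hdec s hs
    have hxy := hcx _ ht' _ hs x hx c hc y hy d hd rfl rfl
    have h1 := h.comm_cent x hx d hd
    have h2 := (h.comm_cent y hy c hc).symm
    rw [commutatorElement_def, show x * c * (y * d) * (x * c)⁻¹ * (y * d)⁻¹ = c * d * c⁻¹ * d⁻¹ by
      rw [show x * c * (y * d) = x * y * (c * d) by rw [mul_assoc, ← mul_assoc c, h2.eq]; group,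
        mul_inv_rev, mul_inv_rev, show x * y * (c * d) * (c⁻¹ * x⁻¹) * (d⁻¹ * y⁻¹) =
          x * y * (c * d * c⁻¹) * (x⁻¹ * d⁻¹) * y⁻¹ by group, h1.inv_inv.eq,
        show x * y * (c * d * c⁻¹) * (d⁻¹ * x⁻¹) * y⁻¹ = x * y * (c * d * c⁻¹ * d⁻¹) * (x⁻¹ * y⁻¹) by group]
      have hk : c * d * c⁻¹ * d⁻¹ ∈ C := mul_mem (mul_mem (mul_mem hc hd) (inv_mem hc)) (inv_mem hd)
      have h3 := h.comm_cent (x * y) (mul_mem hx hy) _ hk
      rw [h3.eq, mul_assoc, show x * y * (x⁻¹ * y⁻¹) = x * y * x⁻¹ * y⁻¹ by group,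
        show x * y * x⁻¹ * y⁻¹ = 1 by rw [hxy.eq]; group, mul_one]]
    exact mul_mem (mul_mem (mul_mem hc hd) (inv_mem hc)) (inv_mem hd)
  rcases h.span with ⟨-, hinner, hU⟩ | ⟨hinn, hsz⟩
  · by_cases hle : T ⊓ T' ≤ V
    · have hdec : ∀ t' ∈ T', ∃ x ∈ T, ∃ c ∈ C, t' = x * c := fun t' ht' =>
        hinner t' (hT' ht') fun t ht => hle (hin t' ht' t ht)
      by_cases hx : ∃ t' ∈ T', ∃ x ∈ T, x ∉ V ∧ ∃ c ∈ C, t' = x * c
      · obtain ⟨t', ht', x, hx, hxV, c, hc, rfl⟩ := hx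
        exact Or.inl (hU x hx hxV _ fun t ht => h.comm_mul ht hc ▸ commutator_mem_commutator ht' ht)
      · refine Or.inr (hcomm (fun t' ht' s hs x hx' c hc y hy d hd e1 e2 => ?_) hdec)
        have hxV : x ∈ V := by
          by_contra hxV
          exact hx ⟨t', ht', x, hx', hxV, c, hc, e1⟩
        have hyV : y ∈ V := by
          by_contra hyV
          exact hx ⟨s, hs, y, hy, hyV, d, hd, e2⟩
        have hxy := h.sq _ (mul_mem hxV hyV)
        show x * y = y * x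
        rw [← inv_eq_iff_mul_eq_one.2 hxy, mul_inv_rev, inv_eq_iff_mul_eq_one.2 (h.sq x hxV),
          inv_eq_iff_mul_eq_one.2 (h.sq y hyV)]
    · obtain ⟨x, hx, hxV⟩ := SetLike.not_le_iff_exists.1 hle
      exact Or.inl (hU x (mem_inf.1 hx).1 hxV _ fun t ht => commutator_mem_commutator (mem_inf.1 hx).2 ht)
  · have hdec : ∀ t' ∈ T', ∃ x ∈ T, ∃ c ∈ C, t' = x * c := fun t' ht' => hinn t' (hT' ht')
    by_cases hab : ∀ t' ∈ T', ∀ s ∈ T', ∀ x ∈ T, ∀ c ∈ C, ∀ y ∈ T, ∀ d ∈ C,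
      t' = x * c → s = y * d → Commute x y
    · exact Or.inr (hcomm hab hdec)
    · push Not at hab
      obtain ⟨t', ht', s, hs, x, hx, c, hc, y, hy, d, hd, rfl, rfl, hxy⟩ := hab
      exact Or.inl (hsz x hx y hy hxy _ (fun t ht => h.comm_mul ht hc ▸ commutator_mem_commutator ht' ht)
        fun t ht => h.comm_mul ht hd ▸ commutator_mem_commutator hs ht)

/-- A trace covered by commutators with `T'` lies in the trace of `T'`. -/
theorem Sep.le_trace (h : Sep U T V C) (h' : Sep U T' V' C') (hle : V ≤ ⁅T', T⁆) : V ≤ V' := by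
  rcases h'.span with ⟨hom, -⟩ | ⟨hinn, -⟩
  · exact fun x hx => hom x (commutator_le.2 (fun a ha b hb => by
      rw [commutatorElement_def, show a * b * a⁻¹ * b⁻¹ = a * (b * a⁻¹ * b⁻¹) by group]
      exact mul_mem ha (h'.conj b (h.le hb) _ (inv_mem ha))) (hle hx)) (h.sq x hx)
  · refine hle.trans (commutator_le.2 fun a ha b hb => ?_)
    obtain ⟨y, hy, d, hd, rfl⟩ := hinn b (h.le hb)
    rw [show ⁅a, y * d⁆ = ⁅y * d, a⁆⁻¹ from (commutatorElement_inv _ _).symm, h'.comm_mul ha hd,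
      commutatorElement_inv, ← h'.comm]
    exact commutator_mem_commutator ha hy

/-- Two traces are equal or each centralizes the component of the other. -/
theorem Sep.cross (h : Sep U T V C) (h' : Sep U T' V' C') (hV : V ≠ ⊥) (hV' : V' ≠ ⊥) :
    V = V' ∨ (V' ≤ C ∧ V ≤ C') := by
  have h1 : V ≤ V' ∨ V' ≤ C := (h.le_or h'.le h'.conj).imp (h.le_trace h') (fun hle => h'.comm ▸ hle)
  have h2 : V' ≤ V ∨ V ≤ C' := (h'.le_or h.le h.conj).imp (h'.le_trace h) (fun hle => h.comm ▸ hle)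
  rcases h1 with a | a <;> rcases h2 with b | b
  · exact Or.inl (le_antisymm a b)
  · exact absurd (eq_bot_iff.2 ((le_inf a b).trans h'.disj.le)) hV
  · exact absurd (eq_bot_iff.2 ((le_inf b a).trans h.disj.le)) hV'
  · exact Or.inr ⟨a, b⟩

end CfsgLib.Gold.Phi
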