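import Cfsg.Agent.Lib.Goldschmidt.Defs

/-!
# Strongly closed abelian `2`-subgroups, the Frattini case: what is used of the Bender groups

Facts on a simple group of Suzuki's list with nonabelian Sylow `2`-subgroup `R`; the involutions of `R` are
the elements `x` with `x * x = 1`.
-/

set_option autoImplicit false

namespace CfsgLib.Gold.Phi

open Subgroup
open scoped commutatorElement

universe u

/-- The facts used of a simple group with nonabelian Sylow `2`-subgroup `R` in Suzuki's list. -/
structure RankOneFacts {K : Type u} [Group K] (R : Sylow 2 K) : Prop where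
  /-- the derived group of `R` is the set of its elements of order at most two -/
  derived : ∀ x : K, x ∈ ⁅(R : Subgroup K), (R : Subgroup K)⁆ ↔ x ∈ (R : Subgroup K) ∧ x * x = 1
  /-- the involutions are central in `R` -/
  central : ∀ x ∈ (R : Subgroup K), x * x = 1 → ∀ t ∈ (R : Subgroup K), Commute x t
  /-- the centralizer of an involution of `R` has trivial odd core -/
  core : ∀ v ∈ (R : Subgroup K), orderOf v = 2 → Cfsg.pPrimeCore 2 (centralizer ({v} : Set K)) = ⊥
  /-- an automorphism of odd order centralizing `R` is trivial -/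
  odd_aut : ∀ α : MulAut K, Odd (orderOf α) → (∀ t ∈ (R : Subgroup K), α t = t) → α = 1
  /-- an automorphism fixing the involutions and trivial modulo them is inner by `R` -/
  inner : ∀ β : MulAut K, (∀ x ∈ (R : Subgroup K), x * x = 1 → β x = x) →
    (∀ t ∈ (R : Subgroup K), β t * t⁻¹ ∈ (R : Subgroup K) ∧ β t * t⁻¹ * (β t * t⁻¹) = 1) →
      ∃ x ∈ (R : Subgroup K), β = MulAut.conj x
  /-- unitary: `[x, R]` is all of the involutions off them; Suzuki: no outer `2`-elements, and two
  noncommuting elements have enough commutators -/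
  span : (∀ x ∈ (R : Subgroup K), x * x ≠ 1 → ∀ N : Subgroup K, (∀ t ∈ (R : Subgroup K), ⁅x, t⁆ ∈ N) →
      ∀ v ∈ (R : Subgroup K), v * v = 1 → v ∈ N) ∨
    ((∀ (β : MulAut K) (k : ℕ), β ^ 2 ^ k = 1 → (∀ t ∈ (R : Subgroup K), β t ∈ (R : Subgroup K)) →
        (∀ x ∈ (R : Subgroup K), x * x = 1 → β x = x) → ∃ x ∈ (R : Subgroup K), β = MulAut.conj x) ∧
      ∀ x ∈ (R : Subgroup K), ∀ y ∈ (R : Subgroup K), ¬ Commute x y → ∀ N : Subgroup K,
        (∀ t ∈ (R : Subgroup K), ⁅x, t⁆ ∈ N) → (∀ t ∈ (R : Subgroup K), ⁅y, t⁆ ∈ N) →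
          ∀ v ∈ (R : Subgroup K), v * v = 1 → v ∈ N)

/-- The obligation on the groups of Suzuki's list. -/
def RankOneFactsStmt : Prop :=
  ∀ (K : Type u) [Group K] [Finite K], IsSimpleGroup K → IsoFamilies K →
    ∀ R : Sylow 2 K, ¬ IsMulCommutative (R : Subgroup K) → RankOneFacts R

end CfsgLib.Gold.Phi
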