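import Cfsg.Agent.Lib.Goldschmidt.Setup
import Cfsg.Agent.Lib.Goldschmidt.Comp.Defs
import Cfsg.Agent.Lib.Goldschmidt.Phi.Facts
import Cfsg.Agent.Lib.Goldschmidt.Phi.Cross
import Cfsg.Agent.Lib.Walter.Rank.Local
import Cfsg.Agent.Lib.Walter.Rank.Factor
import Cfsg.Agent.Lib.Coprime.Component

/-!
# Strongly closed abelian `2`-subgroups, the Frattini case: the model of a met component

At a met component `K` of `C(a)` modulo its core the image of `U = C_S(A)` cuts `K` in a Sylow subgroup,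
which is nonabelian; this gives the structure `Sep` for `T = pre K ∩ U`, `V = pre K ∩ A` and
`C = pre C(K) ∩ U`.
-/

set_option autoImplicit false
set_option linter.style.haveILetI false

namespace CfsgLib.Gold.Phi

open Subgroup
open scoped commutatorElement
open CfsgLib.Walter.Rank (CQ proj pre mem_pre)

universe u

variable {G : Type u} [Group G]

/-- The trace of `U` at a component. -/
def TT (S : Subgroup G) (A : Subgroup G) (a : G) (K : Subgroup (CQ a)) : Subgroup G :=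
  pre a K ⊓ centA S A

/-- The trace of `A` at a component. -/
def VV (A : Subgroup G) (a : G) (K : Subgroup (CQ a)) : Subgroup G :=
  pre a K ⊓ A

/-- The centralizer of a component in `U`. -/
def CC (S : Subgroup G) (A : Subgroup G) (a : G) (K : Subgroup (CQ a)) : Subgroup G :=
  pre a (centralizer (K : Set (CQ a))) ⊓ centA S A

variable [Finite G] {S : Sylow 2 G} {A : Subgroup G}

theorem centA_le_centralizer {a : G} (ha : a ∈ A) :
    centA (S : Subgroup G) A ≤ centralizer ({a} : Set G) := fun _ hu =>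
  mem_centralizer_singleton_iff.2 (mem_centralizer_iff.1 (inf_le_right (a := (S : Subgroup G)) hu) a ha).symm

/-- The projection of `U`. -/
def bar (S : Sylow 2 G) {a : G} (ha : a ∈ A) : ↥(centA (S : Subgroup G) A) →* CQ a :=
  (proj a).comp (inclusion (centA_le_centralizer ha))

theorem bar_mem_iff {a : G} (ha : a ∈ A) {H : Subgroup (CQ a)} (u : centA (S : Subgroup G) A) :
    bar S ha u ∈ H ↔ (u : G) ∈ pre a H :=
  (CfsgLib.Walter.Rank.mem_pre_iff (centA_le_centralizer ha u.2)).symm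

theorem bar_injective {a : G} (ha : a ∈ A) : Function.Injective (bar S ha) := by
  rw [injective_iff_map_eq_one]
  intro u hu
  exact Subtype.ext (CfsgLib.Walter.Rank.eq_one_of_proj (S := S) u.2.1 (centA_le_centralizer ha u.2) hu)

theorem bar_eq_proj {a : G} (ha : a ∈ A) (u : centA (S : Subgroup G) A)
    (hc : (u : G) ∈ centralizer ({a} : Set G)) : bar S ha u = proj a ⟨u, hc⟩ := rfl

section

variable (h : Setting S A)
include h

theorem mem_img_iff {a : G} (ha : a ∈ A) (x : CQ a) :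
    x ∈ img A a ↔ ∃ v ∈ A, ∃ hv : v ∈ centA (S : Subgroup G) A, bar S ha ⟨v, hv⟩ = x := by
  constructor
  · rintro ⟨⟨v, hvC⟩, hv, rfl⟩
    exact ⟨v, hv, h.le_centA hv, rfl⟩
  · rintro ⟨v, hv, hvU, rfl⟩
    exact ⟨⟨v, centA_le_centralizer ha hvU⟩, hv, rfl⟩

theorem bar_mem_img {a : G} (ha : a ∈ A) (u : centA (S : Subgroup G) A) :
    bar S ha u ∈ img A a ↔ (u : G) ∈ A := by
  constructor
  · intro hu
    obtain ⟨v, hv, hvU, e⟩ := (mem_img_iff h ha _).1 hu
    rwa [← bar_injective ha e]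
  · exact fun hu => (mem_img_iff h ha _).2 ⟨u, hu, u.2, rfl⟩

theorem bar_mem_centralizer_img {a : G} (ha : a ∈ A) (u : centA (S : Subgroup G) A) :
    bar S ha u ∈ centralizer (img A a : Set (CQ a)) := by
  refine mem_centralizer_iff.2 fun x hx => ?_
  obtain ⟨v, hv, hvU, rfl⟩ := (mem_img_iff h ha x).1 hx
  rw [← map_mul, ← map_mul]
  exact congrArg _ (Subtype.ext (mem_centralizer_iff.1 (inf_le_right (a := (S : Subgroup G)) u.2) v hv))

theorem img_sq {a : G} (ha : a ∈ A) {x : CQ a} (hx : x ∈ img A a) : x * x = 1 := by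
  obtain ⟨v, hv, hvU, rfl⟩ := (mem_img_iff h ha x).1 hx
  rw [← map_mul, ← map_one (bar S ha)]
  exact congrArg _ (Subtype.ext (h.sq v hv))

/-- The image of `U` is a Sylow subgroup of the centralizer of the image of `A`. -/
theorem exists_conj_into_bar {a : G} (ha : a ∈ A) {P : Subgroup (CQ a)} (hP : IsPGroup 2 P)
    (hPA : P ≤ centralizer (img A a : Set (CQ a))) :
    ∃ m ∈ centralizer (img A a : Set (CQ a)), ∀ p ∈ P, m * p * m⁻¹ ∈ (bar S ha).range := by
  haveI := Fact.mk Nat.prime_two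
  set C := centralizer ({a} : Set G)
  set M := centralizer (img A a : Set (CQ a))
  have hCA : centralizer (A : Set G) ≤ C := fun c hc =>
    mem_centralizer_singleton_iff.2 (mem_centralizer_iff.1 hc a ha).symm
  let f0 : ↥(centralizer (A : Set G)) →* CQ a := (proj a).comp (inclusion hCA)
  have hf0 : ∀ c, f0 c ∈ M := fun c => mem_centralizer_iff.2 fun x hx => by
    obtain ⟨v, hv, hvU, rfl⟩ := (mem_img_iff h ha x).1 hx
    show proj a _ * proj a _ = proj a _ * proj a _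
    rw [← map_mul, ← map_mul]
    exact congrArg _ (Subtype.ext (mem_centralizer_iff.1 c.2 v hv))
  let f : ↥(centralizer (A : Set G)) →* M := f0.codRestrict M hf0
  have hsurj : Function.Surjective f := by
    rintro ⟨x, hx⟩
    obtain ⟨g, rfl⟩ := QuotientGroup.mk'_surjective _ x
    have hAC : A ≤ C := h.le_centA.trans (centA_le_centralizer ha)
    have hcomm : ∀ s ∈ A.subgroupOf C, g * s * g⁻¹ * s⁻¹ ∈ Cfsg.pPrimeCore 2 ↥C := by
      intro s hs
      rw [← QuotientGroup.eq_one_iff]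
      show proj a (g * s * g⁻¹ * s⁻¹) = 1
      rw [map_mul, map_mul, map_mul, map_inv, map_inv,
        show proj a g * proj a s = proj a s * proj a g from
          (mem_centralizer_iff.1 hx (proj a s) ⟨s, hs, rfl⟩).symm,
        mul_inv_cancel_right, mul_inv_cancel]
    obtain ⟨v, hv, hvc⟩ := CfsgLib.Coprime.exists_mul_mem_centralizer (p := 2)
      (V := Cfsg.pPrimeCore 2 ↥C) (CfsgLib.Coprime.pPrimeCore_coprime Nat.prime_two)
      ((S.2.to_le h.le_sylow).comap_of_injective C.subtype C.subtype_injective)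
      (by rw [Subgroup.normalizer_eq_top]; exact le_top) hcomm
    refine ⟨⟨((v * g : C) : G), mem_centralizer_iff.2 fun q hq =>
      congrArg Subtype.val (mem_centralizer_iff.1 hvc ⟨q, hAC hq⟩ (mem_subgroupOf.2 hq))⟩, Subtype.ext ?_⟩
    show proj a (v * g) = proj a g
    rw [map_mul, show proj a v = 1 from (QuotientGroup.eq_one_iff v).2 hv, one_mul]
  obtain ⟨Q, hQ⟩ := h.exists_centA_sylow
  obtain ⟨m, hm⟩ := CfsgLib.Invol.exists_conj_le_sylow (hP.comap_of_injective M.subtype M.subtype_injective)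
    (Q.mapSurjective hsurj)
  refine ⟨m, m.2, fun p hp => ?_⟩
  have h1 := hm ⟨p, hPA hp⟩ (mem_subgroupOf.2 hp)
  rw [← SetLike.mem_coe, ← Sylow.coe_coe, Sylow.coe_mapSurjective] at h1
  obtain ⟨c, hc, he⟩ := h1
  rw [hQ] at hc
  exact ⟨⟨c, hc⟩, congrArg Subtype.val he⟩

variable (hC : CompFacts A)
include hC

/-- A met component has a nontrivial trace. -/
theorem exists_trace {a : G} (ha : a ∈ A) (ha1 : a ≠ 1) {K : Subgroup (CQ a)} (hK : IsMet A a K) :
    ∃ v ∈ img A a, v ∈ K ∧ v ≠ 1 := by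
  by_contra hno
  push Not at hno
  refine hK.2 fun b hb => ?_
  obtain ⟨v, hv, hvc⟩ := hC.split a ha (h.orderOf_eq ha ha1) K hK.1 b hb
  rwa [hno v hv.1 hv.2, inv_one, mul_one] at hvc

theorem component_inf_centralizer_eq_one {a : G} (ha : a ∈ A) (ha1 : a ≠ 1) {K : Subgroup (CQ a)}
    (hK : IsMet A a K) {x : CQ a} (hx : x ∈ K) (hxc : x ∈ centralizer (K : Set (CQ a))) : x = 1 := by
  obtain ⟨hs, hn, -⟩ := hC.form a ha (h.orderOf_eq ha ha1) K hK
  haveI := hs
  have hc : (⟨x, hx⟩ : K) ∈ center K := mem_center_iff.2 fun k =>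
    Subtype.ext (mem_centralizer_iff.1 hxc k k.2)
  rcases (inferInstance : (center K).Normal).eq_bot_or_eq_top with e | e
  · rw [e, mem_bot] at hc
    exact congrArg Subtype.val hc
  · exact absurd (isMulCommutative_iff.2 fun p q => mem_center_iff.1 (e.ge (mem_top q)) p) hn

/-- An element fixing the trace normalizes the component. -/
theorem centralizer_img_le_normalizer {a : G} (ha : a ∈ A) (ha1 : a ≠ 1) {K : Subgroup (CQ a)}
    (hK : IsMet A a K) : centralizer (img A a : Set (CQ a)) ≤ normalizer (K : Set (CQ a)) := by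
  intro m hm
  obtain ⟨v, hvA, hvK, hv1⟩ := exists_trace h hC ha ha1 hK
  have hfix : m * v * m⁻¹ = v := by rw [← mem_centralizer_iff.1 hm v hvA, mul_inv_cancel_right]
  refine mem_normalizer_fintype fun y hy => ?_
  have hK' : Cfsg.IsComponent (K.map (MulAut.conj m).toMonoidHom) :=
    CfsgLib.Coprime.isComponent_map_equiv _ hK.1
  by_contra hne
  have hne' : K.map (MulAut.conj m).toMonoidHom ≠ K := fun e => hne (e ▸ mem_map_of_mem _ hy)
  have hcomm := commutator_eq_bot_iff_le_centralizer.1 (CfsgLib.Coprime.components_commute hK' hK.1 hne')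
  have hvK' : v ∈ K.map (MulAut.conj m).toMonoidHom := ⟨v, hvK, hfix⟩
  exact hv1 (component_inf_centralizer_eq_one h hC ha ha1 hK hvK (hcomm hvK'))

variable (hphi : A ≤ sqGen (centA (S : Subgroup G) A))
include hphi

/-- A met component has nonabelian Sylow subgroups. -/
theorem not_abTwo {a : G} (ha : a ∈ A) (ha1 : a ≠ 1) {K : Subgroup (CQ a)} (hK : IsMet A a K) :
    ¬ CfsgLib.Walter.AbTwo K := by
  intro hab
  have hle : sqGen (centA (S : Subgroup G) A) ≤ pre a (centralizer (K : Set (CQ a))) := by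
    refine (closure_le _).2 ?_
    rintro _ ⟨u, hu, rfl⟩
    obtain ⟨k, hk⟩ := (S.2.to_le inf_le_left : IsPGroup 2 (centA (S : Subgroup G) A)) ⟨u, hu⟩
    obtain ⟨v, hv, hvc⟩ := hC.split_two a ha (h.orderOf_eq ha ha1) K hK hab (bar S ha ⟨u, hu⟩) k
      (by rw [← map_pow, hk, map_one]) (bar_mem_centralizer_img h ha _)
    refine (bar_mem_iff ha ⟨u * u, mul_mem hu hu⟩).1 ?_
    show bar S ha (⟨u, hu⟩ * ⟨u, hu⟩) ∈ _
    rw [map_mul]
    set g := bar S ha ⟨u, hu⟩
    have hcv : Commute g v := (mem_centralizer_iff.1 (bar_mem_centralizer_img h ha _) v hv.1).symm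
    have e : g * g = g * v⁻¹ * (g * v⁻¹) := by
      rw [hcv.inv_right.eq, show v⁻¹ * g * (v⁻¹ * g) = v⁻¹ * (g * v⁻¹) * g by group, hcv.inv_right.eq,
        show v⁻¹ * (v⁻¹ * g) * g = (v * v)⁻¹ * (g * g) by group, img_sq h ha hv.1, inv_one, one_mul]
    rw [e]
    exact mul_mem hvc hvc
  refine hK.2 fun b hb => ?_
  obtain ⟨x, hx, hxU, rfl⟩ := (mem_img_iff h ha b).1 hb
  exact (bar_mem_iff ha ⟨x, hxU⟩).2 (hle (hphi hx))

variable (hF : RankOneFactsStmt.{u})
include hF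

/-- `U` cuts a met component in a Sylow subgroup, whose involutions are the trace of `A`. -/
theorem exists_sylow {a : G} (ha : a ∈ A) (ha1 : a ≠ 1) {K : Subgroup (CQ a)} (hK : IsMet A a K) :
    ∃ R : Sylow 2 K, RankOneFacts R ∧
      (∀ x : K, x ∈ (R : Subgroup K) ↔ (x : CQ a) ∈ (bar S ha).range) ∧
      ∀ x : K, (x : CQ a) ∈ img A a ↔ x ∈ (R : Subgroup K) ∧ x * x = 1 := by
  haveI := Fact.mk Nat.prime_two
  have ha2 := h.orderOf_eq ha ha1
  obtain ⟨hs, hn, hform⟩ := hC.form a ha ha2 K hK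
  have hnab := not_abTwo h hC hphi ha ha1 hK
  have hfam : IsoFamilies K := hform.resolve_left fun hc => hnab fun P p q => by
    exact isMulCommutative_iff.1 (CfsgLib.Walter.Rank.sylow_isElementary hs hc P).1 p q
  have hnc : ∀ T : Sylow 2 K, ¬ IsMulCommutative (T : Subgroup K) := fun T hT => hnab fun P p q => by
    let e := Sylow.equiv P T
    exact e.injective (by rw [map_mul, map_mul]; exact isMulCommutative_iff.1 hT (e p) (e q))
  obtain ⟨T, hT⟩ := hC.omega a ha ha2 K hK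
  have hTf := hF K hs hfam T (hnc T)
  have hTA : (T : Subgroup K).map K.subtype ≤ centralizer (img A a : Set (CQ a)) := by
    rintro _ ⟨t, ht, rfl⟩
    refine mem_centralizer_iff.2 fun b hb => ?_
    obtain ⟨v, hv, hvc⟩ := hC.split a ha ha2 K hK.1 b hb
    obtain ⟨hvT, hv2⟩ := (hT ⟨v, hv.2⟩).1 hv.1
    have h1 : Commute v (t : CQ a) := congrArg Subtype.val (hTf.central _ hvT hv2 t ht).eq
    have h2 : Commute (b * v⁻¹) (t : CQ a) := (mem_centralizer_iff.1 hvc t t.2).symm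
    have := h2.mul_left h1
    rwa [inv_mul_cancel_right] at this
  obtain ⟨m, hm, hmT⟩ := exists_conj_into_bar h ha (T.2.map K.subtype) hTA
  have hmK := centralizer_img_le_normalizer h hC ha ha1 hK hm
  set β : MulAut K := normalizerMonoidHom K ⟨m, hmK⟩ with hβ
  have hβv : ∀ k : K, ((β k : K) : CQ a) = m * k * m⁻¹ := fun k => rfl
  set R : Sylow 2 K := T.mapSurjective (f := β.toMonoidHom) β.surjective with hR
  have hRc : (R : Subgroup K) = (T : Subgroup K).map β.toMonoidHom := rfl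
  have hRle : (R : Subgroup K) ≤ (bar S ha).range.subgroupOf K := by
    rw [hRc]
    rintro _ ⟨t, ht, rfl⟩
    exact mem_subgroupOf.2 (hβv t ▸ hmT _ (mem_map_of_mem _ ht))
  have hp : IsPGroup 2 ((bar S ha).range.subgroupOf K) :=
    ((S.2.to_le (inf_le_left : centA (S : Subgroup G) A ≤ S)).of_surjective _
      (bar S ha).rangeRestrict_surjective).comap_of_injective K.subtype K.subtype_injective
  have hReq := R.is_maximal' hp hRle
  refine ⟨R, hF K hs hfam R (hnc R), fun x => ?_, fun x => ?_⟩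
  · rw [← hReq]; exact mem_subgroupOf
  · have hfix : ∀ b ∈ img A a, m * b * m⁻¹ = b := fun b hb => by
      rw [← mem_centralizer_iff.1 hm b hb, mul_inv_cancel_right]
    rw [hRc]
    constructor
    · intro hx
      obtain ⟨h1, h2⟩ := (hT x).1 hx
      exact ⟨⟨x, h1, Subtype.ext (hfix _ hx)⟩, h2⟩
    · rintro ⟨⟨t, ht, rfl⟩, h2⟩
      have ht2 : t * t = 1 := β.injective (by rw [map_mul, map_one]; exact h2)
      have := (hT t).2 ⟨ht, ht2⟩
      show ((β t : K) : CQ a) ∈ img A a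
      rw [hβv, hfix _ this]
      exact this

/-- The trace of `U` is the Sylow subgroup, its derived group is the trace of `A`. -/
theorem commutator_TT {a : G} (ha : a ∈ A) (ha1 : a ≠ 1) {K : Subgroup (CQ a)} (hK : IsMet A a K) :
    ⁅TT (S : Subgroup G) A a K, TT (S : Subgroup G) A a K⁆ = VV A a K := by
  obtain ⟨R, hRf, hR, hRA⟩ := exists_sylow h hC hphi hF ha ha1 hK
  set U := centA (S : Subgroup G) A
  set f := bar S ha
  set T₀ : Subgroup U := K.comap f
  have hTT : TT (S : Subgroup G) A a K = T₀.map U.subtype := by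
    ext x
    constructor
    · intro hx
      exact ⟨⟨x, hx.2⟩, (bar_mem_iff ha _).2 hx.1, rfl⟩
    · rintro ⟨u, hu, rfl⟩
      exact ⟨(bar_mem_iff ha u).1 hu, u.2⟩
  have hmap : T₀.map f = (R : Subgroup K).map K.subtype := by
    ext x
    constructor
    · rintro ⟨u, hu, rfl⟩
      exact ⟨⟨f u, hu⟩, (hR _).2 ⟨u, rfl⟩, rfl⟩
    · rintro ⟨r, hr, rfl⟩
      obtain ⟨u, hu⟩ := (hR r).1 hr
      exact ⟨u, show f u ∈ K from hu ▸ r.2, hu⟩
  have key : ∀ u : U, u ∈ ⁅T₀, T₀⁆ ↔ (u : G) ∈ VV A a K := by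
    intro u
    rw [← mem_map_iff_mem (bar_injective ha), map_commutator, hmap, ← map_commutator]
    constructor
    · rintro ⟨r, hr, e⟩
      have hi : bar S ha u ∈ img A a := e ▸ (hRA r).2 ((hRf.derived r).1 hr)
      exact ⟨(bar_mem_iff ha u).1 (e ▸ r.2), (bar_mem_img h ha u).1 hi⟩
    · intro hu
      have hk : f u ∈ K := (bar_mem_iff ha u).2 hu.1
      exact ⟨⟨f u, hk⟩, (hRf.derived _).2 ((hRA _).1 ((bar_mem_img h ha u).2 hu.2)), rfl⟩
  rw [hTT, ← map_commutator]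
  ext x
  constructor
  · rintro ⟨u, hu, rfl⟩
    exact (key u).1 hu
  · intro hx
    exact ⟨⟨x, h.le_centA hx.2⟩, (key _).2 hx, rfl⟩

/-- The structure of a met component. -/
theorem sep {a : G} (ha : a ∈ A) (ha1 : a ≠ 1) {K : Subgroup (CQ a)} (hK : IsMet A a K) :
    Sep (centA (S : Subgroup G) A) (TT (S : Subgroup G) A a K) (VV A a K) (CC (S : Subgroup G) A a K) := by
  obtain ⟨R, hRf, hR, hRA⟩ := exists_sylow h hC hphi hF ha ha1 hK
  set U := centA (S : Subgroup G) A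
  set f := bar S ha
  have hnorm : ∀ u : U, f u ∈ normalizer (K : Set (CQ a)) := fun u =>
    centralizer_img_le_normalizer h hC ha ha1 hK (bar_mem_centralizer_img h ha u)
  let β : U → MulAut K := fun u => normalizerMonoidHom K ⟨f u, hnorm u⟩
  have hfix : ∀ (u : U) (x : K), x ∈ (R : Subgroup K) → x * x = 1 → β u x = x := fun u x hx hx2 =>
    Subtype.ext (show f u * x * (f u)⁻¹ = x by
      rw [← mem_centralizer_iff.1 (bar_mem_centralizer_img h ha u) x ((hRA x).2 ⟨hx, hx2⟩), mul_inv_cancel_right])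
  have hinnU : ∀ (u : U) (r : K), r ∈ (R : Subgroup K) → β u = MulAut.conj r →
      ∃ x ∈ TT (S : Subgroup G) A a K, ∃ c ∈ CC (S : Subgroup G) A a K, (u : G) = x * c := by
    intro u r hr e
    obtain ⟨x, hx⟩ := (hR r).1 hr
    refine ⟨x, ⟨(bar_mem_iff ha x).1 (hx ▸ r.2), x.2⟩, ((x⁻¹ * u : U) : G),
      ⟨(bar_mem_iff ha _).1 (mem_centralizer_iff.2 fun k hk => ?_), (x⁻¹ * u : U).2⟩, by simp⟩
    have h1 := congrArg (fun z : K => (z : CQ a)) (DFunLike.congr_fun e ⟨k, hk⟩)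
    have h2 : f u * k * (f u)⁻¹ = f x * k * (f x)⁻¹ := by
      rw [show f x = r from hx]; exact h1
    rw [map_mul, map_inv]
    calc k * ((f x)⁻¹ * f u) = (f x)⁻¹ * (f x * k * (f x)⁻¹) * f u := by group
      _ = (f x)⁻¹ * (f u * k * (f u)⁻¹) * f u := by rw [h2]
      _ = (f x)⁻¹ * f u * k := by group
  have hsub : ∀ N : Subgroup G, ∀ x : U, ∀ hxK : f x ∈ K,
      (∀ t ∈ TT (S : Subgroup G) A a K, ⁅(x : G), t⁆ ∈ N) →
        ∀ t ∈ (R : Subgroup K), ⁅(⟨f x, hxK⟩ : K), t⁆ ∈ ((N.subgroupOf U).map f).subgroupOf K := by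
    intro N x hxK hN t ht
    obtain ⟨s, hs⟩ := (hR t).1 ht
    have hsT : (s : G) ∈ TT (S : Subgroup G) A a K := ⟨(bar_mem_iff ha s).1 (hs ▸ t.2), s.2⟩
    refine mem_subgroupOf.2 ⟨⁅x, s⁆, mem_subgroupOf.2 ?_, ?_⟩
    · have := hN s hsT
      rwa [← show ((⁅x, s⁆ : U) : G) = ⁅(x : G), (s : G)⁆ from map_commutatorElement U.subtype x s] at this
    · rw [map_commutatorElement, show f s = t from hs]
      rfl
  have hback : ∀ N : Subgroup G, (∀ v ∈ (R : Subgroup K), v * v = 1 → v ∈ ((N.subgroupOf U).map f).subgroupOf K) →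
      VV A a K ≤ N := by
    intro N hN v hv
    set w : U := ⟨v, h.le_centA hv.2⟩
    have hwK : f w ∈ K := (bar_mem_iff ha w).2 hv.1
    obtain ⟨hwR, hw2⟩ := (hRA ⟨f w, hwK⟩).1 ((bar_mem_img h ha w).2 hv.2)
    obtain ⟨n, hn, e⟩ := mem_subgroupOf.1 (hN _ hwR hw2)
    have := bar_injective ha (show f n = f w from e)
    rw [show v = (n : G) from (congrArg Subtype.val this).symm]
    exact mem_subgroupOf.1 hn
  refine ⟨inf_le_right, ?_, fun x hx => h.sq x hx.2, commutator_TT h hC hphi hF ha ha1 hK, ?_, ?_, ?_⟩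
  · intro u hu t ht
    have hmem : u * t * u⁻¹ ∈ U := Subgroup.mul_mem _ (Subgroup.mul_mem _ hu ht.2) (Subgroup.inv_mem _ hu)
    refine ⟨(bar_mem_iff ha ⟨u * t * u⁻¹, hmem⟩).1 ?_, hmem⟩
    show f ((⟨u, hu⟩ : U) * ⟨t, ht.2⟩ * (⟨u, hu⟩ : U)⁻¹) ∈ K
    rw [map_mul, map_mul, map_inv]
    exact (mem_normalizer_iff.1 (hnorm ⟨u, hu⟩) _).1 ((bar_mem_iff ha ⟨t, ht.2⟩).2 ht.1)
  · intro t ht c hc
    have h1 := mem_centralizer_iff.1 ((bar_mem_iff ha ⟨c, hc.2⟩).2 hc.1) _ ((bar_mem_iff ha ⟨t, ht.2⟩).2 ht.1)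
    rw [← map_mul, ← map_mul] at h1
    exact congrArg Subtype.val (bar_injective ha h1)
  · rw [eq_bot_iff]
    intro x hx
    have hxU : x ∈ U := hx.2.2
    have h1 := component_inf_centralizer_eq_one h hC ha ha1 hK
      ((bar_mem_iff ha ⟨x, hxU⟩).2 hx.1.1) ((bar_mem_iff ha ⟨x, hxU⟩).2 hx.2.1)
    exact mem_bot.2 (congrArg Subtype.val (bar_injective ha (h1.trans (map_one f).symm)))
  have hmemA : ∀ x : U, ∀ hxK : f x ∈ K,
      (⟨f x, hxK⟩ : K) * ⟨f x, hxK⟩ = 1 → (x : G) ∈ VV A a K := fun x hxK h2 =>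
    ⟨(bar_mem_iff ha x).1 hxK, (bar_mem_img h ha x).1 ((hRA ⟨f x, hxK⟩).2 ⟨(hR _).2 ⟨x, rfl⟩, h2⟩)⟩
  rcases hRf.span with hU | ⟨hinn, hsz⟩
  · refine Or.inl ⟨fun x hx hx2 => ?_, fun u hu hu2 => ?_, fun x hx hxV N hN => ?_⟩
    · refine hmemA ⟨x, hx.2⟩ ((bar_mem_iff ha ⟨x, hx.2⟩).2 hx.1) (Subtype.ext ?_)
      show f _ * f _ = 1
      rw [← map_mul, ← map_one f]
      exact congrArg f (Subtype.ext hx2)
    · obtain ⟨r, hr, e⟩ := hRf.inner (β ⟨u, hu⟩) (hfix _) fun t ht => by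
        obtain ⟨s, hs⟩ := (hR t).1 ht
        have hsT : (s : G) ∈ TT (S : Subgroup G) A a K := ⟨(bar_mem_iff ha s).1 (hs ▸ t.2), s.2⟩
        have hcV := hu2 s hsT
        have he : ((⁅(⟨u, hu⟩ : U), s⁆ : U) : G) = ⁅u, (s : G)⁆ := map_commutatorElement U.subtype _ _
        have hcK : f ⁅(⟨u, hu⟩ : U), s⁆ ∈ K := (bar_mem_iff ha _).2 (he ▸ hcV.1)
        have hci : f ⁅(⟨u, hu⟩ : U), s⁆ ∈ img A a := (bar_mem_img h ha _).2 (he ▸ hcV.2)
        have heq : (β ⟨u, hu⟩ t * t⁻¹ : K) = ⟨f ⁅(⟨u, hu⟩ : U), s⁆, hcK⟩ := by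
          refine Subtype.ext ?_
          show f ⟨u, hu⟩ * t * (f ⟨u, hu⟩)⁻¹ * (t : CQ a)⁻¹ = f ⁅(⟨u, hu⟩ : U), s⁆
          rw [map_commutatorElement, show f s = t from hs, commutatorElement_def]
        rw [heq]
        exact (hRA _).1 hci
      exact hinnU _ r hr e
    · have hxK : f ⟨x, hx.2⟩ ∈ K := (bar_mem_iff ha ⟨x, hx.2⟩).2 hx.1
      exact hback N (hU ⟨f ⟨x, hx.2⟩, hxK⟩ ((hR _).2 ⟨_, rfl⟩) (fun e => hxV (hmemA _ hxK e)) _
        (hsub N ⟨x, hx.2⟩ hxK hN))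
  · refine Or.inr ⟨fun u hu => ?_, fun x hx y hy hxy N hNx hNy => ?_⟩
    · obtain ⟨k, hk⟩ := (S.2.to_le (inf_le_left : U ≤ S)) ⟨u, hu⟩
      have hpow : β ⟨u, hu⟩ ^ 2 ^ k = 1 := by
        show normalizerMonoidHom K ⟨f ⟨u, hu⟩, _⟩ ^ 2 ^ k = 1
        rw [← map_pow, show (⟨f ⟨u, hu⟩, hnorm _⟩ : normalizer (K : Set (CQ a))) ^ 2 ^ k = 1 from
          Subtype.ext ((map_pow f _ _).symm.trans ((congrArg f hk).trans (map_one f))), map_one]
      obtain ⟨r, hr, e⟩ := hinn (β ⟨u, hu⟩) k hpow (fun t ht => by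
        obtain ⟨s, hs⟩ := (hR t).1 ht
        refine (hR _).2 ⟨⟨u, hu⟩ * s * (⟨u, hu⟩ : U)⁻¹, ?_⟩
        rw [map_mul, map_mul, map_inv, show f s = t from hs]
        rfl) (hfix _)
      exact hinnU _ r hr e
    · have hxK : f ⟨x, hx.2⟩ ∈ K := (bar_mem_iff ha ⟨x, hx.2⟩).2 hx.1
      have hyK : f ⟨y, hy.2⟩ ∈ K := (bar_mem_iff ha ⟨y, hy.2⟩).2 hy.1
      refine hback N (hsz ⟨f ⟨x, hx.2⟩, hxK⟩ ((hR _).2 ⟨_, rfl⟩) ⟨f ⟨y, hy.2⟩, hyK⟩ ((hR _).2 ⟨_, rfl⟩)
        (fun e => hxy ?_) _ (hsub N ⟨x, hx.2⟩ hxK hNx) (hsub N ⟨y, hy.2⟩ hyK hNy))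
      have h1 : f ⟨x, hx.2⟩ * f ⟨y, hy.2⟩ = f ⟨y, hy.2⟩ * f ⟨x, hx.2⟩ := congrArg Subtype.val e.eq
      rw [← map_mul, ← map_mul] at h1
      exact congrArg Subtype.val (bar_injective ha h1)

end

end CfsgLib.Gold.Phi
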